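import Cfsg.Agent.TAB.B.Ch
import Cfsg.Agent.TAB.B.Geo.Rank

/-!
# Four elements of the class 16C of the Baby Monster in one coset of `Q` (helper48)
-/

set_option autoImplicit false
set_option maxRecDepth 100000
set_option Elab.async false

namespace Cfsg.Agent.TAB.B.C2.X16

open Cfsg.Agent.BabyM Cfsg.Agent.BabyM.Conc Cfsg.Agent.H819.U33 Cfsg.Agent.BMx.Fast Cfsg.Agent.TAB.B.Tr Cfsg.Agent.TAB.B.Geo
  Cfsg.Agent.TAB.Eng

/-- word -/
def wx : List Ltr := [.hi, .p5, .X6, .p, .y10, .hi, .p5]

/-- plane -/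
def px_0 : ℕ := 0x82690000280000beffffbeebffebeb2841280082820014ffffffbeffffebeb0082141428410041ebffffffbeffbeff8296281428008241ebebebebbebebebe82bebe1428eb6941ebebebebbebebebeaabeaa14aaeb2841aaeb2869aaaa000028ebc3c382be143c96be143c00c300c30000000000000000000000000000000000eb00aa001400aa28eb005582820055c3ebc3eb3c3c14beebeb82d7bebe007d417dc3eb145514be82d71455287d00553c7dbeffc3d741ff96d7beff287d287d417d416914141414c35582553c0028553c3c557dc3c314d7c3c396d73c3c287d00005555000055550000555500001455c300d7551400414114005541000000000000000000000000000000000000000000000000000000000000000000000000000000000000000000000000000000000000000000000000000000000000000000000000000000000000000000000000000000000000000000000000000000000000000000000000000000000000000000000000000000000000000000000000aa820082aa2800283c002814c300824182be14aa28eb41aa82c3ff82283cff2828aa55d782aa557dd728d7697d827d96bebe1496ebeb41692828eb698282be96bebe143cebeb41c3eb28ebebbe82bebebeaa1428ebaa4182ebaa4100beaa140041ebc34114be3c143c283c00c382c300000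00000000000000000000000000000000000000000000000000000000000000000000000000000000000000000000000000000000000000000000000000000000000000000000000000000000000000000000000000000000000000000000000000000005ad3200059d320004ad3200000000000000000ffff0000ffffffffffffffff0000ffffffffffffaf50ffffffff0000ffffffffffffffff0000ffffffffcccc00000000ffffffffffff0000ffff0000ffffffffffff00000000000000000000ffff00000000ffff0000ffffffffffff00000000ffff0000ffff0000ffffffffffffffff0000ffff0000000000000000ff00000000000000ffff0000000000000000000051a4ff0000000000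

/-- plane -/
def px_1 : ℕ := 0xeb6900ebbe9600be4100004114000014c3aac3eb3c2828280000004100000000be3caaaa828282aa140000000000000028000028820000820000000000000000280000288200008200000000000000000000002800000000000000000000000082000000000000000000000000000000000000000000000000000000000000007d147d55d741d7559614be284141eb8214143c144141c34114147d284141ff8214003c144100c3414100c38214003c28410041001400140041004100140014001400141400004141000041000000140000000000000041000000410000001400000000000000000000000000000000000000000000000000000000000000000000000000000000000000000000000000000000000000000000000000000000000000000000000000000000000000000000000000000000000000000000000000000000000000000000000000000000000000000000000000000000000000000000000000000000000000000000000000000000000000000000000000000000005569ff7d5596ffd7c3ff96eb3cff69be6941eb419614be147d3c0028d7c30082d714aa287d41aa8228c32882823c82280000282800008282828200822828002800002800000082000082000000280000000028000000820000000000000000008200000028000000000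0000000000000000000000000000000000000000000000000000000000000000000000000000000000000000000000000000000000000000000000000000000000000000000000000000000000000000000000000000000000000000000000000000000000000000000000000000000220000000000000000000000000000000000000000000000000000000000000000000000000000000000000000000000000000000000000000000000000000000000000000000000000000000000000000000000000000000000000000000000000000000000000000000000000000000000000000000000000000000000000000000000000000000000000000000000000000000000000000000000000000a600000000000000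

theorem cx_0 : trF wx 1 [px_0, px_1] U (3) = true := by decide +kernel

theorem ch_x : chB (g wx) = ((3 : ℤ) : ℚ) := chB_of (dg_of_trF cx_0) (by decide) (by decide)

/-- word -/
def wx2 : List Ltr := [.Z10, .Z9, .Z5, .Z1, .X9, .X8, .X3, .X1, .y8, .y7, .y4, .y1, .p6, .hi, .p5, .hi, .p6, .hi, .p5, .hi, .y1]

/-- plane -/
def px2_0 : ℕ := 0xffffffffffffffff000000ff000000ffffffffffffffffffff00ffffff00ffffffffffffffffffffffff00ffffff00ffffffffffffffffffff000000ff000000000000ff000000ff0000000000000000ff00ffffff00ffff0000000000000000ffff00ffffff00ff0000000000000000ff000000ff0000000000000000000000ff00ffffff00ffffffffffffffffffffff00ff00ff00ff00ff00ffffff00ffff0000ff000000ff00ff00ff00ff00ff0000000000000000000000ff000000ff00ffffffffffffffffff00ffffff00ffffff00ffffff00ffffff00ff00ff00ff00ff00ff00ff00ff000000ff000000ff000000ff000000ff00000000000000000000000000000000000000000000000000000000000000000000000000000000000000000000000000000000000000000000000000000000000000000000000000000000000000000000000000000000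00000000000000000000000000000000000000000000000000000000000000000000000000000000000000000000000000000000000000000000ff000000ff00000000ff000000ff0000ff00ff00ff00ffff00ff00ff00ff00ffff00ffffff00ffff00ffffff00ffffffffffffffffffffffffffffffffffffffff00ffffff00ffff00ffffff00ffff00ff00ff00ff00ffff00ff00ff00ff0000ff000000ff00000000ff000000ff0000000000000000000000000000000000000000000000000000000000000000000000000000000000000000000000000000000000000000000000000000000000000000000000000000000000000000000000000000000000000000000070e4800070fd820070e480000000000000ffffffffffffffffffff0000fffffffffffff0f0f3c0f5a0ffffffffffffffffffffffffffffffffffff0000ff00ffffffff000000000000ffff0ff0fffffffffffff0f0ffffffffffff0000000000000ff00000fffffa5000000000ffffffffffff00000000000000000000000000000000000000000000ffff7d140000f0f000000000000000000000000000000000ffff2be8ccaa71d40000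

theorem cx2_0 : trF wx2 1 [px2_0] U (3) = true := by decide +kernel

theorem ch_x2 : chB (g wx2) = ((3 : ℤ) : ℚ) := chB_of (dg_of_trF cx2_0) (by decide) (by decide)

/-- word -/
def wx4 : List Ltr := [.Z10, .Z7, .Z4, .Z3, .Z2, .Z1, .Z0, .X9, .X6, .X1, .X0, .y10, .y9, .y8, .y7, .y5, .y4, .y3, .y2, .y1]

/-- plane -/
def px4_0 : ℕ := 0xffffffffffffffffffffffffffffffffffffffffffffffffffffffffffffffff0000000000000000000000000000000000000000000000000000000000000000ffffffffffffffffffffffffffffffffffffffffffffffffffffffffffffffff0000000000000000000000000000000000000000000000000000000000000000ffffffffffffffffffffffffffffffffffffffffffffffffffffffffffffffffffffffffffffffffffffffffffffffffffffffffffffffffffffffffffffffff00000000000000000000000000000000000000000000000000000000000000000000000000000000000000000000000000000000000000000000000000000000000000000000000000000000000000000000000000000000000000000000000000000000000000000000000000000000000000000000000000000000000000000000000000000000000000000000000000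0000000000000000000000000000000000000000000000000000000000000000000000000000000000000000000000ffffffffffffffffffffffffffffffffffffffffffffffffffffffffffffffffffffffffffffffffffffffffffffffffffffffffffffffffffffffffffffffff0000000000000000000000000000000000000000000000000000000000000000000000000000000000000000000000000000000000000000000000000000000000000000000000000000000000000000000000000000000000000000000000000000000000000000000000000000000000000000000000000000000000000000000000000000000000000000000000000000000000000000007be6f800000000000000000000aaaa0000ff000000cccc0000ff000000ff00ff00aaaaccccff00ff00ccccff00aaaaff0000000000ff00ccccaaaa000000000000ccccaaaaff00ff00ff000000ccccff00ff00ff00ff000000ccccff00ff00ff00ff00cccc0000ff00aaaaccccff00ff00ff00ff00ccccff00ff00cccc00000000f0f0f0f0ff00f0f0ff00000000000000ccccaaaaff00ccccccccccccff00ff00f0f0ff00f0f0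

theorem cx4_0 : trF wx4 1 [px4_0] U (19) = true := by decide +kernel

theorem ch_x4 : chB (g wx4) = ((19 : ℤ) : ℚ) := chB_of (dg_of_trF cx4_0) (by decide) (by decide)

theorem g_z : g [.z] = zB := by
  have h1 : g [.z] = zB⁻¹ := congrArg Inv.inv (Subtype.ext (W_single .z))
  rw [h1, inv_eq_iff_mul_eq_one, zB_sq]

theorem tr_pw {v m : List Ltr} {d : ℕ} {a : ℚ} (h : eqF v (pw m d) = true) (hv : chB (g v) = a) : tr (g m ^ d) = a := by
  rw [← g_pw, ← eq_of_eqF h]
  exact hv

theorem pow_eight {m : List Ltr} (h : g (pw m 8) = g [.z]) : g m ^ 8 = zB := by rw [← g_pw, h, g_z]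

theorem ty : TyB 84 (g wx) := (tyB_iff sg_16CF _).2 ⟨orderOf_of_ordF (by decide +kernel),
  List.forall_mem_cons.2 ⟨by rw [pow_one]; exact ch_x,
  List.forall_mem_cons.2 ⟨tr_pw (by decide +kernel) ch_x2,
  List.forall_mem_cons.2 ⟨tr_pw (by decide +kernel) ch_x4,
  List.forall_mem_cons.2 ⟨by rw [pow_eight (eq_of_eqF (by decide +kernel)), tr_zB]; norm_num,
  List.forall_mem_nil _⟩⟩⟩⟩⟩

theorem isConj_of {c m v : List Ltr} (h : g (cj c m) = g v) : IsConj (g m) (g v) :=
  isConj_iff.2 ⟨(g c)⁻¹, by rw [← h, g_cj, inv_inv]⟩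

/-- the involutions -/
def wt : List (List Ltr) := [[.z], [.Z10], [.z, .Z10], [.z, .Z9, .Z7, .Z3, .Z1, .X9, .X8, .X7, .X6, .X5, .X4, .X3, .X2, .y10, .y9, .y8, .y7,
  .y6, .y5, .y4, .y3, .X0, .y1], [.Z9, .Z2, .Z1, .Z0, .y10, .y7, .y6, .y3, .y2, .y1], [.Z10, .Z9, .Z2, .Z1, .Z0, .y10,
  .y7, .y6, .y3, .y2, .y1], [.Z10, .Z9, .Z7, .Z3, .Z1, .X9, .X8, .X7, .X6, .X5, .X4, .X3, .X2, .y10, .y9, .y8, .y7,
  .y6, .y5, .y4, .y3, .X0, .y1], [.z, .Z10, .Z9, .Z7, .Z3, .Z1, .X9, .X8, .X7, .X6, .X5, .X4, .X3, .X2, .y10, .y9,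
  .y8, .y7, .y6, .y5, .y4, .y3, .X0, .y1], [.z, .Z9, .Z2, .Z1, .Z0, .y10, .y7, .y6, .y3, .y2, .y1], [.z, .Z10, .Z9,
  .Z2, .Z1, .Z0, .y10, .y7, .y6, .y3, .y2, .y1], [.Z9, .Z7, .Z3, .Z1, .X9, .X8, .X7, .X6, .X5, .X4, .X3, .X2, .y10,
  .y9, .y8, .y7, .y6, .y5, .y4, .y3, .X0, .y1]]

/-- the conjugators -/
def wa : List (List Ltr) := [[], [.z, .Z10, .Z9, .Z7, .Z6, .Z3, .Z2, .Z0, .X10, .X6, .X5, .X3, .X2, .X1, .X0, .y9, .y4, .y2, .p4, .hi, .p7, .hi,
  .p6, .hi, .p5, .hi, .p9, .xii, .y2, .hi, .p8, .tau, .X0, .y1, .p6], [.Z9, .Z8, .Z6, .Z5, .Z4, .Z3, .Z2, .X9, .X8,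
  .X1, .y10, .y7, .y3, .p8, .hi, .p5, .hi, .p7, .hi, .p5, .hi, .p, .hi, .p5, .X0, .p10, .xii, .taui], [.z, .Z8, .Z4,
  .Z3, .Z1, .Z0, .X10, .X6, .X3, .y10, .y6, .y2, .p, .hi, .p6, .hi, .p10, .hi, .p2, .hi, .p2, .xii, .hi, .xii, .p2,
  .xii, .y1, .tau, .p6, .xii, .p10, .xii, .y7, .taui, .xii, .p3, .hi, .p10], [.Z8, .Z7, .Z6, .Z5, .Z4, .Z2, .Z1, .X10,
  .X9, .X8, .X4, .X1, .X0, .y10, .y9, .y8, .y6, .y4, .y3, .y2, .p4, .hi, .p9, .hi, .p10, .hi, .p5, .hi, .p8, .hi, .p3,
  .hi, .tau, .xii, .y1, .hi, .p8, .xii, .y2, .p2, .hi, .tau, .X0, .p5, .hi, .p7], [.z, .Z8, .Z7, .Z6, .Z4, .Z1, .X6,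
  .X5, .X4, .X0, .y10, .y9, .y8, .y6, .y4, .y3, .y2, .p10, .hi, .p10, .hi, .p7, .hi, .p7, .hi, .p10, .hi, .p10, .hi,
  .xii, .y2, .taui, .xii, .y1, .p, .hi, .xii, .y6, .tau, .p3], [.z, .Z4, .Z3, .X10, .X8, .X7, .X5, .X4, .X3, .y9, .y4,
  .y2, .p6, .hi, .p8, .hi, .p10, .hi, .p, .hi, .p5, .hi, .p3, .xii, .y2, .tau, .xii, .p, .xii, .p2, .y2, .hi, .taui,
  .y1, .p10], [.z, .Z8, .Z7, .Z5, .Z4, .Z1, .Z0, .X8, .X3, .X2, .X1, .X0, .y8, .y6, .y4, .y2, .y1, .p8, .hi, .p6, .hi,
  .p10, .hi, .p2, .hi, .p6, .hi, .p4, .taui, .y1, .xii, .y2, .hi, .p10, .hi, .p8, .X0, .p9, .xii, .p2, .y2, .xii,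
  .tau, .xii, .y2, .p3, .hi, .p8], [.Z10, .Z6, .Z5, .Z3, .Z2, .X10, .X9, .X8, .X6, .X4, .X3, .X2, .X0, .y10, .y9, .y8,
  .y7, .y6, .y3, .y1, .p7, .hi, .p9, .hi, .p10, .hi, .p5, .hi, .p6, .hi, .p2, .hi, .xii, .hi, .p10, .hi, .p8, .tau,
  .xii, .y2, .p10, .hi, .p, .X0, .p8, .xii, .y4, .p3, .tau], [.Z10, .Z7, .Z6, .Z4, .Z3, .Z0, .X10, .X9, .X8, .X6, .X4,
  .X3, .y10, .y6, .y4, .y3, .p10, .hi, .p2, .hi, .p4, .hi, .p3, .hi, .p7, .tau, .xii, .y6, .p, .xii, .p3, .y6, .hi,
  .tau, .p4, .hi], [.Z9, .Z6, .Z4, .Z1, .Z0, .X8, .X6, .X1, .X0, .y5, .y3, .y2, .p7, .hi, .p9, .hi, .p, .hi, .p3, .hi,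
  .p3, .hi, .p10, .hi, .xii, .hi, .p8, .taui, .xii, .y6, .p3, .hi, .xii, .y8, .hi, .p10, .X0, .p9, .xii, .hi, .y10,
  .p7, .taui]]

theorem wt_conj : allEq ((List.range 11).map fun i => (cj (wa.getD i []) [.z], wt.getD i [])) = true := by decide +kernel

theorem wt_comm : allEq ((List.range 11).map fun i => (wx ++ wt.getD i [], wt.getD i [] ++ wx)) = true := by decide +kernel

theorem wt_ne : ((List.range 11).all fun b => (List.range b).all fun a => neF (wt.getD a []) (wt.getD b [])) = true := by
  decide +kernel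

theorem piB_x : 11 ≤ piB (g wx) := by
  have := finB
  have h1 : ∀ a b : Fin 11, a < b → g (wt.getD a []) ≠ g (wt.getD b []) := fun a b h =>
    ne_of_neF (List.all_eq_true.1 (List.all_eq_true.1 wt_ne b (List.mem_range.2 b.2)) a (List.mem_range.2 h))
  refine le_trans (Nat.card_fin 11).ge (Nat.card_le_card_of_injective (fun i : Fin 11 => (⟨g (wt.getD i []), ?_, ?_⟩ :
    {y : BG // IsConj zB y ∧ g wx * y = y * g wx})) fun a b h => ?_)
  · rw [← g_z]
    exact isConj_of (eq_of_allEq wt_conj _ (List.mem_map.2 ⟨i, List.mem_range.2 i.2, rfl⟩))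
  · rw [← g_append, ← g_append]
    exact eq_of_allEq wt_comm _ (List.mem_map.2 ⟨i, List.mem_range.2 i.2, rfl⟩)
  · have h2 := congrArg Subtype.val h
    rcases lt_trichotomy a b with h3 | h3 | h3
    · exact absurd h2 (h1 a b h3)
    · exact h3
    · exact absurd h2.symm (h1 b a h3)

theorem piB_conj (x h : BG) : piB (h * x * h⁻¹) = piB x := by
  have h1 := Characters.Core.isCharacter_isClassFunction isChar_piB x h
  exact_mod_cast h1

/-- the property of the class -/
def Ps (x : BG) : Prop := TyB 84 x ∧ x ^ 8 = zB ∧ 11 ≤ piB x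

/-- the conjugators in `C` -/
def wc : List (List Ltr) := [[], [.y10, .y9, .y8, .y3, .p8, .hi, .p10, .hi, .p2, .hi, .p10, .hi, .p3], [.y9, .y5, .y4, .hi, .p7, .hi, .p7, .hi,
  .p9, .hi, .p5, .hi, .p10], [.y9, .y8, .y5, .y2, .p3, .hi, .p7, .hi, .p5, .hi, .p6, .hi, .p7]]

/-- the elements of `Q` -/
def wv : List (List Ltr) := [[], [.z, .Z4, .Z2, .Z1, .X6, .X4, .X3], [.Z10, .Z5, .Z3, .Z0, .X6, .X5, .X4], [.Z10, .Z7, .X8, .X6, .X5, .X3]]

/-- the separating elements of `Q` -/
def wy : List (List (List Ltr)) := [[[], [.Z1, .Z5, .Z6, .Z7, .Z8], [.Z0, .Z1, .Z2, .Z3, .Z4, .Z7], [.Z1, .Z5, .Z6, .Z7, .Z8]], [[], [], [.Z0, .Z1,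
  .Z2, .Z3, .Z4, .Z7], [.Z1, .Z6, .Z7, .Z8]], [[], [], [], [.Z1, .Z6, .Z7, .Z8]], [[], [], [], []]]

/-- the four elements -/
def xs (k : ℕ) : List Ltr := wx ++ wv.getD k []

/-- the separating element -/
def ys (k l : ℕ) : List Ltr := (wy.getD k []).getD l []

theorem xs_ok : ((List.range 4).all fun k => eqF (cj (wc.getD k []) wx) (xs k) && eqF (pw (xs k) 8) [.z] &&
    (wv.getD k []).all ConcGrp.inQ && (List.range k).all fun j => (ys j k).all ConcGrp.inQ &&
      eqF (xs j ++ ys j k) (ys j k ++ xs j) && neF (xs k ++ ys j k) (ys j k ++ xs k)) = true := by decide +kernel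

theorem inQ_g {w : List Ltr} (h : w.all ConcGrp.inQ = true) : InQ (g w) :=
  InQ.inv (x := BM.StageW.Wg w) (ConcGrp.W_mem_Q h)

/-- **four elements in one coset of `Q`** -/
theorem fam : ∃ (x : BG) (v : ℕ → BG), (∀ k < 4, InQ (v k) ∧ Ps (x * v k)) ∧
    ∀ l < 4, ∀ k < l, ∃ y, InQ y ∧ x * v k * y = y * (x * v k) ∧ x * v l * y ≠ y * (x * v l) := by
  have h := xs_ok
  simp only [List.all_eq_true (l := List.range _), List.mem_range, Bool.and_eq_true] at h
  refine ⟨g wx, fun k => g (wv.getD k []), fun k hk => ⟨inQ_g (h k hk).1.2, ?_⟩, fun l hl k hk => ?_⟩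
  · obtain ⟨c, hc⟩ := isConj_iff.1 (isConj_of (eq_of_eqF (h k hk).1.1.1))
    rw [← g_append]
    refine ⟨?_, pow_eight (eq_of_eqF (h k hk).1.1.2), ?_⟩ <;> rw [← xs, ← hc]
    · exact Ty.conj ty c
    · rw [piB_conj]
      exact piB_x
  · obtain ⟨⟨h1, h2⟩, h3⟩ := (h l hl).2 k hk
    refine ⟨g (ys k l), inQ_g h1, ?_, ?_⟩ <;> rw [← g_append, ← g_append, ← g_append]
    · exact eq_of_eqF h2
    · exact ne_of_neF h3

end Cfsg.Agent.TAB.B.C2.X16
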