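import Cfsg.Agent.TAB.B.C2.Cnt

/-!
# The tables of the cosets of `Q` in `C` (helper48)
-/

set_option autoImplicit false

namespace Cfsg.Agent.TAB.B.C2

/-- the coset of the class 0 -/
def T0 : List (Row × ℕ) := [
  ((2, false, [(1, 23, -516, 0)], 1784, 2816, 51678, 41472), 4600),
  ((4, true, [(2, 23, 2300, -2048), (1, 23, -100, 0)], 2200, 2400, 46750, 46400), 953856),
  ((2, false, [(1, 23, -4, 0)], 2296, 2304, 46558, 46592), 4098600),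
  ((4, true, [(2, 23, 2300, -2048), (1, 23, 28, 0)], 2328, 2272, 46494, 46656), 3238400),
  ((2, false, [(1, 23, 252, 0)], 2552, 2048, 48094, 45056), 93150),
  ((1, false, [], 4600, 0, 93150, 0), 1),
  ((2, true, [(1, 23, 2300, -2048)], 4600, 0, 93150, 0), 1)]

/-- the coset of the class 1 -/
def T1 : List (Row × ℕ) := [
  ((4, false, [(2, 23, 252, 0), (1, -9, -4, 0)], 280, 288, 2206, 2240), 3870720),
  ((4, false, [(2, 23, 252, 0), (1, -9, -12, 0)], 304, 264, 2222, 2224), 2064384),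
  ((4, false, [(2, 23, 252, 0), (1, -9, 20, 0)], 272, 296, 2222, 2224), 2064384),
  ((4, false, [(2, 23, 252, 0), (1, -9, 60, 0)], 216, 352, 2462, 1984), 129024),
  ((4, false, [(2, 23, 252, 0), (1, -9, -68, 0)], 344, 224, 2462, 1984), 129024),
  ((2, false, [(1, -9, 28, 0)], 312, 256, 2398, 2048), 34560),
  ((2, false, [(1, -9, -44, 0)], 272, 296, 2286, 2160), 32768),
  ((4, true, [(2, 23, 2300, -2048), (1, -9, -12, 0)], 240, 328, 2286, 2160), 32768),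
  ((4, true, [(2, 23, 2300, -2048), (1, -9, 28, 0)], 312, 256, 2142, 2304), 30720),
  ((2, false, [(1, -9, 284, 0)], 56, 512, 4446, 0), 128),
  ((2, false, [(1, -9, -228, 256)], 568, 0, 4446, 0), 64),
  ((2, false, [(1, -9, -228, -256)], 568, 0, 4446, 0), 64)]

/-- the coset of the class 2 -/
def T2 : List (Row × ℕ) := [
  ((8, true, [(4, 23, 2300, -2048), (2, 23, 28, 0), (1, -1, 0, 0)], 52, 52, 222, 224), 2097152),
  ((4, false, [(2, 23, -4, 0), (1, -1, -4, 0)], 48, 56, 206, 240), 1474560),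
  ((4, false, [(2, 23, -4, 0), (1, -1, 4, 0)], 56, 48, 222, 224), 1474560),
  ((8, true, [(4, 23, 2300, -2048), (2, 23, 28, 0), (1, -1, 8, 0)], 44, 60, 222, 224), 1048576),
  ((8, true, [(4, 23, 2300, -2048), (2, 23, 28, 0), (1, -1, -8, 0)], 60, 44, 222, 224), 1048576),
  ((4, false, [(2, 23, 252, 0), (1, -1, 12, 0)], 64, 40, 238, 208), 368640),
  ((4, false, [(2, 23, 252, 0), (1, -1, -12, 0)], 40, 64, 254, 192), 368640),
  ((4, false, [(2, 23, 252, 0), (1, -1, 12, 0)], 32, 72, 270, 176), 122880),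
  ((4, false, [(2, 23, 252, 0), (1, -1, -12, 0)], 72, 32, 222, 224), 122880),
  ((4, false, [(2, 23, 252, 0), (1, -1, -20, 0)], 64, 40, 270, 176), 122880),
  ((4, false, [(2, 23, 252, 0), (1, -1, 20, 0)], 40, 64, 222, 224), 122880),
  ((4, false, [(2, 23, 252, 0), (1, -1, -20, 0)], 32, 72, 302, 144), 4096),
  ((2, false, [(1, -1, 20, 0)], 72, 32, 446, 0), 4096),
  ((4, false, [(2, 23, 252, 0), (1, -1, 52, 0)], 40, 64, 446, 0), 2048),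
  ((4, true, [(2, 23, 2300, -2048), (1, -1, 12, 0)], 0, 104, 302, 144), 2048),
  ((2, false, [(1, -1, -52, 0)], 64, 40, 302, 144), 2048),
  ((4, false, [(2, 23, 252, 0), (1, -1, -12, 64)], 104, 0, 446, 0), 1024),
  ((4, false, [(2, 23, 252, 0), (1, -1, -12, -64)], 104, 0, 446, 0), 1024)]

/-- the coset of the class 3 -/
def T3 : List (Row × ℕ) := [
  ((4, false, [(2, 23, 252, 0), (1, 7, 4, 0)], 144, 136, 974, 976), 3440640),
  ((4, false, [(2, 23, -4, 0), (1, 7, -4, 0)], 136, 144, 958, 992), 3440640),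
  ((4, false, [(2, 23, 252, 0), (1, 7, -28, 0)], 112, 168, 1038, 912), 491520),
  ((4, false, [(2, 23, -4, 0), (1, 7, 28, 0)], 168, 112, 1022, 928), 491520),
  ((4, false, [(2, 23, 252, 0), (1, 7, 12, 0)], 152, 128, 926, 1024), 215040),
  ((4, false, [(2, 23, 252, 0), (1, 7, -20, 0)], 120, 160, 990, 960), 215040),
  ((4, false, [(2, 23, 252, 0), (1, 7, 44, 0)], 184, 96, 1118, 832), 53760),
  ((2, false, [(1, 7, 12, 0)], 152, 128, 1182, 768), 17920),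
  ((4, true, [(2, 23, 2300, -2048), (1, 7, -20, 0)], 120, 160, 990, 960), 14336),
  ((4, false, [(2, 23, 252, 0), (1, 7, -84, 0)], 56, 224, 1374, 576), 7680),
  ((2, false, [(1, 7, 140, 128)], 280, 0, 1950, 0), 256),
  ((2, false, [(1, 7, 140, -128)], 280, 0, 1950, 0), 256)]

/-- the coset of the class 4 -/
def T4 : List (Row × ℕ) := [
  ((12, true, [(6, 23, 2300, -2048), (4, -4, 5, -4), (3, 23, 28, 0), (2, -4, 5, 4), (1, -4, 1, 0)], 6, 4, 0, 0), 5242880),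
  ((6, false, [(3, 23, -516, 0), (2, -4, 5, -4), (1, -4, -3, 0)], 2, 8, 0, 0), 2621440),
  ((6, true, [(3, 23, 2300, -2048), (2, -4, 5, -4), (1, -4, 5, 4)], 10, 0, 0, 0), 262144),
  ((3, false, [(1, -4, 5, -4)], 10, 0, 0, 0), 262144)]

/-- the coset of the class 5 -/
def T5 : List (Row × ℕ) := [
  ((12, true, [(6, 23, 2300, -2048), (4, 5, 41, 32), (3, 23, 28, 0), (2, 5, 41, -32), (1, 5, 1, 0)], 42, 40, 126, 144), 1966080),
  ((6, false, [(3, 23, -4, 0), (2, 5, 41, 32), (1, 5, -1, 0)], 40, 42, 130, 140), 1769472),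
  ((12, true, [(6, 23, 2300, -2048), (4, 5, 41, 32), (3, 23, -100, 0), (2, 5, 41, -32), (1, 5, -1, 0)], 40, 42, 130, 140), 1769472),
  ((6, false, [(3, 23, 252, 0), (2, 5, 41, 32), (1, 5, 9, 0)], 50, 32, 142, 128), 1105920),
  ((6, false, [(3, 23, -4, 0), (2, 5, 41, 32), (1, 5, -7, 0)], 34, 48, 142, 128), 1105920),
  ((12, true, [(6, 23, 2300, -2048), (4, 5, 41, 32), (3, 23, 28, 0), (2, 5, 41, -32), (1, 5, -17, 0)], 24, 58, 162, 108), 327680),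
  ((6, false, [(3, 23, -516, 0), (2, 5, 41, 32), (1, 5, 15, 0)], 56, 26, 162, 108), 327680),
  ((6, false, [(3, 23, -516, 0), (2, 5, 41, 32), (1, 5, -39, 0)], 2, 80, 270, 0), 8192),
  ((3, false, [(1, 5, 41, 32)], 82, 0, 270, 0), 4096),
  ((6, true, [(3, 23, 2300, -2048), (2, 5, 41, 32), (1, 5, 41, -32)], 82, 0, 270, 0), 4096)]

/-- the coset of the class 6 -/
def T6 : List (Row × ℕ) := [
  ((8, false, [(4, 23, 252, 0), (2, 7, 44, 0), (1, -5, 4, 0)], 36, 44, 134, 136), 2621440),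
  ((8, false, [(4, 23, 252, 0), (2, 7, 44, 0), (1, -5, -4, 0)], 44, 36, 134, 136), 2621440),
  ((8, false, [(4, 23, 252, 0), (2, 7, 12, 0), (1, -5, 0, 0)], 40, 40, 126, 144), 1966080),
  ((8, false, [(4, 23, 252, 0), (2, 7, 12, 0), (1, -5, -16, 0)], 56, 24, 158, 112), 327680),
  ((8, false, [(4, 23, 252, 0), (2, 7, 12, 0), (1, -5, 16, 0)], 24, 56, 158, 112), 327680),
  ((4, false, [(2, 7, 140, -128), (1, -5, 8, 0)], 32, 48, 142, 128), 122880),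
  ((4, false, [(2, 7, 140, 128), (1, -5, -8, 0)], 48, 32, 142, 128), 122880),
  ((4, false, [(2, 7, 140, -128), (1, -5, 0, 0)], 40, 40, 110, 160), 98304),
  ((4, false, [(2, 7, 140, 128), (1, -5, -16, 0)], 56, 24, 174, 96), 81920),
  ((4, false, [(2, 7, 140, 128), (1, -5, 16, 0)], 24, 56, 174, 96), 81920),
  ((4, false, [(2, 7, 140, -128), (1, -5, 40, 0)], 0, 80, 270, 0), 8192),
  ((4, false, [(2, 7, 140, 128), (1, -5, -40, 32)], 80, 0, 270, 0), 4096),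
  ((4, false, [(2, 7, 140, 128), (1, -5, -40, -32)], 80, 0, 270, 0), 4096)]

/-- the coset of the class 7 -/
def T7 : List (Row × ℕ) := [
  ((8, false, [(4, 23, 252, 0), (2, -9, -4, 0), (1, -1, 0, 0)], 4, 4, 14, 16), 6291456),
  ((8, true, [(4, 23, 2300, -2048), (2, -9, 28, 0), (1, -1, 4, 0)], 8, 0, 14, 16), 786432),
  ((4, false, [(2, -9, 28, 0), (1, -1, -4, 0)], 0, 8, 14, 16), 786432),
  ((8, true, [(4, 23, 2300, -2048), (2, -9, 28, 0), (1, -1, -4, 0)], 0, 8, 30, 0), 262144),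
  ((4, false, [(2, -9, 28, 0), (1, -1, 4, 0)], 8, 0, 30, 0), 196608),
  ((4, false, [(2, -9, -228, 256), (1, -1, 4, 0)], 8, 0, 30, 0), 32768),
  ((4, false, [(2, -9, 284, 0), (1, -1, 4, 16)], 8, 0, 30, 0), 16384),
  ((4, false, [(2, -9, 284, 0), (1, -1, 4, -16)], 8, 0, 30, 0), 16384)]

/-- the coset of the class 8 -/
def T8 : List (Row × ℕ) := [
  ((8, false, [(4, 23, -4, 0), (2, -1, 4, 0), (1, -1, 0, 0)], 0, 0, 14, 8), 2621440),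
  ((8, false, [(4, 23, -4, 0), (2, -1, -4, 0), (1, -1, 0, 0)], 0, 0, 10, 12), 2621440),
  ((8, false, [(4, 23, 252, 0), (2, -1, -12, 0), (1, -1, 0, 0)], 0, 0, 6, 16), 1310720),
  ((8, false, [(4, 23, 252, 0), (2, -1, 12, 0), (1, -1, 0, 0)], 0, 0, 10, 12), 1310720),
  ((4, false, [(2, -1, -52, 0), (1, -1, 0, 0)], 0, 0, 10, 12), 131072),
  ((8, false, [(4, 23, 252, 0), (2, -1, -12, 64), (1, -1, 0, 0)], 0, 0, 22, 0), 131072),
  ((8, true, [(4, 23, 2300, -2048), (2, -1, 12, 0), (1, -1, 0, 0)], 0, 0, 10, 12), 131072),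
  ((8, false, [(4, 23, 252, 0), (2, -1, 52, 0), (1, -1, 0, 8)], 0, 0, 22, 0), 65536),
  ((8, false, [(4, 23, 252, 0), (2, -1, 52, 0), (1, -1, 0, -8)], 0, 0, 22, 0), 65536)]

/-- the coset of the class 9 -/
def T9 : List (Row × ℕ) := [
  ((8, false, [(4, 23, -4, 0), (2, 7, -4, 0), (1, -1, 0, 0)], 12, 12, 38, 40), 3145728),
  ((8, false, [(4, 23, 252, 0), (2, 7, 12, 0), (1, -1, 4, 0)], 8, 16, 38, 40), 786432),
  ((8, false, [(4, 23, 252, 0), (2, 7, 12, 0), (1, -1, -4, 0)], 16, 8, 38, 40), 786432),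
  ((8, false, [(4, 23, 252, 0), (2, 7, -20, 0), (1, -1, 0, 0)], 12, 12, 30, 48), 786432),
  ((8, false, [(4, 23, -4, 0), (2, 7, 28, 0), (1, -1, 4, 0)], 16, 8, 38, 40), 524288),
  ((8, false, [(4, 23, -4, 0), (2, 7, 28, 0), (1, -1, -4, 0)], 8, 16, 38, 40), 524288),
  ((8, false, [(4, 23, 252, 0), (2, 7, 44, 0), (1, -1, 0, 0)], 12, 12, 46, 32), 393216),
  ((8, false, [(4, 23, 252, 0), (2, 7, 44, 0), (1, -1, -8, 0)], 20, 4, 46, 32), 196608),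
  ((8, false, [(4, 23, 252, 0), (2, 7, 44, 0), (1, -1, 8, 0)], 4, 20, 46, 32), 196608),
  ((4, false, [(2, 7, 12, 0), (1, -1, -4, 0)], 8, 16, 30, 48), 196608),
  ((4, false, [(2, 7, 12, 0), (1, -1, 4, 0)], 16, 8, 46, 32), 196608),
  ((8, false, [(4, 23, 252, 0), (2, 7, 44, 0), (1, -1, 8, 0)], 12, 12, 38, 40), 131072),
  ((8, false, [(4, 23, 252, 0), (2, 7, 44, 0), (1, -1, 0, 0)], 4, 20, 54, 24), 131072),
  ((8, false, [(4, 23, 252, 0), (2, 7, 44, 0), (1, -1, -8, 0)], 12, 12, 54, 24), 131072),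
  ((8, false, [(4, 23, 252, 0), (2, 7, 44, 0), (1, -1, 0, 0)], 20, 4, 38, 40), 131072),
  ((4, false, [(2, 7, 140, 128), (1, -1, -12, 0)], 16, 8, 62, 16), 32768),
  ((4, false, [(2, 7, 140, -128), (1, -1, 4, 0)], 0, 24, 62, 16), 32768),
  ((4, false, [(2, 7, 140, 128), (1, -1, 12, 0)], 8, 16, 78, 0), 32768),
  ((4, false, [(2, 7, 140, 128), (1, -1, -4, 16)], 24, 0, 78, 0), 16384),
  ((4, false, [(2, 7, 140, 128), (1, -1, -4, -16)], 24, 0, 78, 0), 16384)]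

/-- the coset of the class 10 -/
def T10 : List (Row × ℕ) := [
  ((8, false, [(4, 23, -4, 0), (2, 7, 28, 0), (1, 3, 0, 0)], 16, 16, 38, 40), 3145728),
  ((8, false, [(4, 23, -4, 0), (2, 7, -4, 0), (1, 3, -4, 0)], 12, 20, 38, 40), 1572864),
  ((8, false, [(4, 23, -4, 0), (2, 7, -4, 0), (1, 3, 4, 0)], 20, 12, 38, 40), 1572864),
  ((8, false, [(4, 23, 252, 0), (2, 7, 44, 0), (1, 3, -4, 0)], 12, 20, 46, 32), 393216),
  ((8, false, [(4, 23, 252, 0), (2, 7, 12, 0), (1, 3, 0, 0)], 16, 16, 30, 48), 393216),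
  ((8, false, [(4, 23, 252, 0), (2, 7, 12, 0), (1, 3, 8, 0)], 24, 8, 46, 32), 393216),
  ((8, true, [(4, 23, 2300, -2048), (2, 7, -20, 0), (1, 3, -4, 0)], 12, 20, 30, 48), 262144),
  ((8, false, [(4, 23, 252, 0), (2, 7, 44, 0), (1, 3, 4, 0)], 20, 12, 30, 48), 196608),
  ((8, false, [(4, 23, 252, 0), (2, 7, 44, 0), (1, 3, -12, 0)], 4, 28, 62, 16), 196608),
  ((4, false, [(2, 7, 12, 0), (1, 3, 0, 0)], 16, 16, 46, 32), 98304),
  ((4, false, [(2, 7, 140, 128), (1, 3, 8, 0)], 24, 8, 62, 16), 98304),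
  ((4, false, [(2, 7, 140, -128), (1, 3, -8, 0)], 8, 24, 30, 48), 32768),
  ((4, false, [(2, 7, 12, 0), (1, 3, 16, 16)], 32, 0, 78, 0), 16384),
  ((4, false, [(2, 7, 12, 0), (1, 3, 16, -16)], 32, 0, 78, 0), 16384)]

/-- the coset of the class 11 -/
def T11 : List (Row × ℕ) := [
  ((8, false, [(4, 23, 252, 0), (2, 7, 12, 0), (1, 3, 0, 0)], 32, 32, 78, 96), 2359296),
  ((8, false, [(4, 23, 252, 0), (2, 7, 44, 0), (1, 3, 4, 0)], 28, 36, 86, 88), 1572864),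
  ((8, false, [(4, 23, 252, 0), (2, 7, 44, 0), (1, 3, -4, 0)], 36, 28, 86, 88), 1572864),
  ((8, false, [(4, 23, 252, 0), (2, 7, 12, 0), (1, 3, -8, 0)], 24, 40, 94, 80), 1179648),
  ((8, false, [(4, 23, 252, 0), (2, 7, 12, 0), (1, 3, 8, 0)], 40, 24, 94, 80), 1179648),
  ((4, false, [(2, 7, 140, 128), (1, 3, 8, 0)], 40, 24, 110, 64), 147456),
  ((4, false, [(2, 7, 140, -128), (1, 3, -8, 0)], 24, 40, 78, 96), 98304),
  ((4, false, [(2, 7, 140, 128), (1, 3, -16, 0)], 32, 32, 110, 64), 73728),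
  ((4, false, [(2, 7, 140, -128), (1, 3, 0, 0)], 16, 48, 110, 64), 73728),
  ((4, false, [(2, 7, 140, 128), (1, 3, 16, 0)], 32, 32, 78, 96), 49152),
  ((4, false, [(2, 7, 140, -128), (1, 3, 0, 0)], 48, 16, 78, 96), 49152),
  ((4, false, [(2, 7, 140, 128), (1, 3, -24, 0)], 8, 56, 174, 0), 16384),
  ((4, false, [(2, 7, 140, -128), (1, 3, 32, 0)], 48, 16, 174, 0), 8192),
  ((4, false, [(2, 7, 140, 128), (1, 3, 16, 32)], 64, 0, 174, 0), 4096),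
  ((4, false, [(2, 7, 140, 128), (1, 3, 16, -32)], 64, 0, 174, 0), 4096)]

/-- the coset of the class 12 -/
def T12 : List (Row × ℕ) := [
  ((4, false, [(2, -9, 28, 0), (1, 7, -4, 0)], 24, 32, 62, 64), 4128768),
  ((8, true, [(4, 23, 2300, -2048), (2, -9, 28, 0), (1, 7, 4, 0)], 32, 24, 62, 64), 4128768),
  ((8, true, [(4, 23, 2300, -2048), (2, -9, 28, 0), (1, 7, -28, 0)], 0, 56, 126, 0), 65536),
  ((4, false, [(2, -9, -228, 256), (1, 7, 28, 0)], 56, 0, 126, 0), 32768),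
  ((4, false, [(2, -9, 284, 0), (1, 7, 28, 16)], 56, 0, 126, 0), 16384),
  ((4, false, [(2, -9, 284, 0), (1, 7, 28, -16)], 56, 0, 126, 0), 16384)]

/-- the coset of the class 13 -/
def T13 : List (Row × ℕ) := [
  ((20, true, [(10, 23, 2300, -2048), (5, 23, -100, 0), (4, -2, 0, -2), (2, -2, 0, 2), (1, -2, 0, 0)], 0, 0, 0, 0), 6291456),
  ((10, true, [(5, 23, 2300, -2048), (2, -2, 0, -2), (1, -2, 0, 2)], 0, 0, 0, 0), 1048576),
  ((5, false, [(1, -2, 0, -2)], 0, 0, 0, 0), 1048576)]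

/-- the coset of the class 14 -/
def T14 : List (Row × ℕ) := [
  ((10, false, [(5, 23, 252, 0), (2, 3, 10, 8), (1, 3, 2, 0)], 12, 8, 14, 16), 1966080),
  ((20, true, [(10, 23, 2300, -2048), (5, 23, 28, 0), (4, 3, 10, 8), (2, 3, 10, -8), (1, 3, -2, 0)], 8, 12, 14, 16), 1966080),
  ((20, true, [(10, 23, 2300, -2048), (5, 23, -100, 0), (4, 3, 10, 8), (2, 3, 10, -8), (1, 3, 0, 0)], 10, 10, 10, 20), 1572864),
  ((10, false, [(5, 23, -4, 0), (2, 3, 10, 8), (1, 3, -4, 0)], 6, 14, 18, 12), 1310720),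
  ((10, false, [(5, 23, -516, 0), (2, 3, 10, 8), (1, 3, 4, 0)], 14, 6, 18, 12), 1310720),
  ((20, true, [(10, 23, 2300, -2048), (5, 23, -100, 0), (4, 3, 10, 8), (2, 3, 10, -8), (1, 3, -10, 0)], 0, 20, 30, 0), 131072),
  ((5, false, [(1, 3, 10, 8)], 20, 0, 30, 0), 65536),
  ((10, true, [(5, 23, 2300, -2048), (2, 3, 10, 8), (1, 3, 10, -8)], 20, 0, 30, 0), 65536)]

/-- the coset of the class 15 -/
def T15 : List (Row × ℕ) := [
  ((12, false, [(6, 23, 252, 0), (4, 5, 41, 32), (3, -9, -4, 0), (2, 5, 9, 0), (1, -3, -1, 0)], 16, 18, 34, 44), 2359296),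
  ((12, false, [(6, 23, 252, 0), (4, 5, 41, 32), (3, -9, 20, 0), (2, 5, 9, 0), (1, -3, 5, 0)], 14, 20, 38, 40), 1572864),
  ((12, false, [(6, 23, 252, 0), (4, 5, 41, 32), (3, -9, -12, 0), (2, 5, 9, 0), (1, -3, -3, 0)], 22, 12, 38, 40), 1572864),
  ((6, false, [(3, -9, 28, 0), (2, 5, 41, 32), (1, -3, 1, 0)], 18, 16, 46, 32), 589824),
  ((6, false, [(3, -9, -44, 0), (2, 5, 41, 32), (1, -3, -5, 0)], 20, 14, 42, 36), 524288),
  ((12, true, [(6, 23, 2300, -2048), (4, 5, 41, 32), (3, -9, -12, 0), (2, 5, 41, -32), (1, -3, 3, 0)], 12, 22, 42, 36), 524288),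
  ((12, true, [(6, 23, 2300, -2048), (4, 5, 41, 32), (3, -9, 28, 0), (2, 5, 41, -32), (1, -3, 1, 0)], 18, 16, 30, 48), 393216),
  ((12, false, [(6, 23, 252, 0), (4, 5, 41, 32), (3, -9, 60, 0), (2, 5, 9, 0), (1, -3, -9, 0)], 24, 10, 50, 28), 393216),
  ((12, false, [(6, 23, 252, 0), (4, 5, 41, 32), (3, -9, -68, 0), (2, 5, 9, 0), (1, -3, 7, 0)], 8, 26, 50, 28), 393216),
  ((6, false, [(3, -9, 284, 0), (2, 5, 41, 32), (1, -3, 17, 0)], 2, 32, 78, 0), 32768),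
  ((6, false, [(3, -9, -228, 256), (2, 5, 41, 32), (1, -3, -15, 16)], 34, 0, 78, 0), 16384),
  ((6, false, [(3, -9, -228, -256), (2, 5, 41, 32), (1, -3, -15, -16)], 34, 0, 78, 0), 16384)]

/-- the coset of the class 16 -/
def T16 : List (Row × ℕ) := [
  ((24, true, [(12, 23, 2300, -2048), (8, 5, 41, 32), (6, 23, 28, 0), (4, 5, 41, -32), (3, -1, -8, 0), (2, 5, 1, 0), (1, -1, 1, 0)], 6, 8, 6, 8), 1048576),
  ((24, true, [(12, 23, 2300, -2048), (8, 5, 41, 32), (6, 23, 28, 0), (4, 5, 41, -32), (3, -1, 0, 0), (2, 5, 1, 0), (1, -1, 3, 0)], 4, 10, 6, 8), 1048576),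
  ((24, true, [(12, 23, 2300, -2048), (8, 5, 41, 32), (6, 23, 28, 0), (4, 5, 41, -32), (3, -1, 0, 0), (2, 5, 1, 0), (1, -1, -3, 0)], 10, 4, 6, 8), 1048576),
  ((24, true, [(12, 23, 2300, -2048), (8, 5, 41, 32), (6, 23, 28, 0), (4, 5, 41, -32), (3, -1, 8, 0), (2, 5, 1, 0), (1, -1, -1, 0)], 8, 6, 6, 8), 1048576),
  ((12, false, [(6, 23, 252, 0), (4, 5, 41, 32), (3, -1, -12, 0), (2, 5, 9, 0), (1, -1, -3, 0)], 6, 8, 6, 8), 786432),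
  ((12, false, [(6, 23, 252, 0), (4, 5, 41, 32), (3, -1, 12, 0), (2, 5, 9, 0), (1, -1, 3, 0)], 8, 6, 6, 8), 786432),
  ((12, false, [(6, 23, 252, 0), (4, 5, 41, 32), (3, -1, -20, 0), (2, 5, 9, 0), (1, -1, 1, 0)], 10, 4, 6, 8), 786432),
  ((12, false, [(6, 23, 252, 0), (4, 5, 41, 32), (3, -1, 20, 0), (2, 5, 9, 0), (1, -1, -1, 0)], 4, 10, 6, 8), 786432),
  ((12, false, [(6, 23, 252, 0), (4, 5, 41, 32), (3, -1, -20, 0), (2, 5, 9, 0), (1, -1, -5, 0)], 8, 6, 14, 0), 131072),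
  ((12, false, [(6, 23, 252, 0), (4, 5, 41, 32), (3, -1, -20, 0), (2, 5, 9, 0), (1, -1, 1, 0)], 2, 12, 14, 0), 131072),
  ((12, false, [(6, 23, 252, 0), (4, 5, 41, 32), (3, -1, 52, 0), (2, 5, 9, 0), (1, -1, 7, 0)], 4, 10, 14, 0), 131072),
  ((12, true, [(6, 23, 2300, -2048), (4, 5, 41, 32), (3, -1, 12, 0), (2, 5, 41, -32), (1, -1, 3, 0)], 0, 14, 14, 0), 131072),
  ((6, false, [(3, -1, 20, 0), (2, 5, 41, 32), (1, -1, 5, 0)], 6, 8, 14, 0), 131072),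
  ((6, false, [(3, -1, 20, 0), (2, 5, 41, 32), (1, -1, -1, 0)], 12, 2, 14, 0), 131072),
  ((6, false, [(3, -1, -52, 0), (2, 5, 41, 32), (1, -1, -7, 0)], 10, 4, 14, 0), 131072),
  ((12, false, [(6, 23, 252, 0), (4, 5, 41, 32), (3, -1, -12, -64), (2, 5, 9, 0), (1, -1, -3, 8)], 14, 0, 14, 0), 65536),
  ((12, false, [(6, 23, 252, 0), (4, 5, 41, 32), (3, -1, -12, 64), (2, 5, 9, 0), (1, -1, -3, -8)], 14, 0, 14, 0), 65536)]

/-- the coset of the class 17 -/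
def T17 : List (Row × ℕ) := [
  ((12, true, [(6, 23, 2300, -2048), (4, -4, 5, -4), (3, -9, 28, 0), (2, -4, 5, 4), (1, 0, 1, 0)], 6, 4, 0, 0), 3145728),
  ((6, false, [(3, -9, -44, 0), (2, -4, 5, -4), (1, 0, 1, 0)], 2, 8, 0, 0), 2097152),
  ((12, true, [(6, 23, 2300, -2048), (4, -4, 5, -4), (3, -9, -12, 0), (2, -4, 5, 4), (1, 0, -3, 0)], 6, 4, 0, 0), 2097152),
  ((6, false, [(3, -9, 284, 0), (2, -4, 5, -4), (1, 0, 5, 0)], 2, 8, 0, 0), 524288),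
  ((6, false, [(3, -9, -228, 256), (2, -4, 5, -4), (1, 0, -3, 4)], 10, 0, 0, 0), 262144),
  ((6, false, [(3, -9, -228, -256), (2, -4, 5, -4), (1, 0, -3, -4)], 10, 0, 0, 0), 262144)]

/-- the coset of the class 18 -/
def T18 : List (Row × ℕ) := [
  ((12, false, [(6, 23, -4, 0), (4, 5, 41, 32), (3, 7, -4, 0), (2, 5, -7, 0), (1, 1, -1, 0)], 4, 6, 10, 20), 1572864),
  ((12, false, [(6, 23, -4, 0), (4, 5, 41, 32), (3, 7, 28, 0), (2, 5, -7, 0), (1, 1, 1, 0)], 6, 4, 14, 16), 1572864),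
  ((12, false, [(6, 23, 252, 0), (4, 5, 41, 32), (3, 7, 4, 0), (2, 5, 9, 0), (1, 1, 1, 0)], 6, 4, 14, 16), 1572864),
  ((12, false, [(6, 23, 252, 0), (4, 5, 41, 32), (3, 7, -28, 0), (2, 5, 9, 0), (1, 1, -1, 0)], 4, 6, 18, 12), 1572864),
  ((12, false, [(6, 23, 252, 0), (4, 5, 41, 32), (3, 7, -20, 0), (2, 5, 9, 0), (1, 1, -5, 0)], 0, 10, 18, 12), 393216),
  ((12, false, [(6, 23, 252, 0), (4, 5, 41, 32), (3, 7, 12, 0), (2, 5, 9, 0), (1, 1, -3, 0)], 2, 8, 14, 16), 393216),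
  ((12, false, [(6, 23, 252, 0), (4, 5, 41, 32), (3, 7, -84, 0), (2, 5, 9, 0), (1, 1, 3, 0)], 8, 2, 18, 12), 393216),
  ((12, false, [(6, 23, 252, 0), (4, 5, 41, 32), (3, 7, 44, 0), (2, 5, 9, 0), (1, 1, 5, 0)], 10, 0, 14, 16), 393216),
  ((6, false, [(3, 7, 12, 0), (2, 5, 41, 32), (1, 1, 3, 0)], 8, 2, 18, 12), 131072),
  ((6, false, [(3, 7, 12, 0), (2, 5, 41, 32), (1, 1, -3, 0)], 2, 8, 30, 0), 131072),
  ((12, true, [(6, 23, 2300, -2048), (4, 5, 41, 32), (3, 7, -20, 0), (2, 5, 41, -32), (1, 1, -5, 0)], 0, 10, 18, 12), 131072),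
  ((6, false, [(3, 7, 140, 128), (2, 5, 41, 32), (1, 1, 5, 8)], 10, 0, 30, 0), 65536),
  ((6, false, [(3, 7, 140, -128), (2, 5, 41, 32), (1, 1, 5, -8)], 10, 0, 30, 0), 65536)]

/-- the coset of the class 19 -/
def T19 : List (Row × ℕ) := [
  ((12, false, [(6, 23, 252, 0), (4, 5, 41, 32), (3, -9, 20, 0), (2, 5, 9, 0), (1, 3, -1, 0)], 8, 14, 14, 16), 1966080),
  ((12, false, [(6, 23, 252, 0), (4, 5, 41, 32), (3, -9, -68, 0), (2, 5, 9, 0), (1, 3, 1, 0)], 14, 8, 14, 16), 1966080),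
  ((12, false, [(6, 23, 252, 0), (4, 5, 41, 32), (3, -9, 60, 0), (2, 5, 9, 0), (1, 3, 3, 0)], 12, 10, 14, 16), 1966080),
  ((12, false, [(6, 23, 252, 0), (4, 5, 41, 32), (3, -9, -12, 0), (2, 5, 9, 0), (1, 3, -3, 0)], 10, 12, 14, 16), 1966080),
  ((12, true, [(6, 23, 2300, -2048), (4, 5, 41, 32), (3, -9, -12, 0), (2, 5, 41, -32), (1, 3, -9, 0)], 0, 22, 30, 0), 131072),
  ((6, false, [(3, -9, -44, 0), (2, 5, 41, 32), (1, 3, -11, 0)], 2, 20, 30, 0), 131072),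
  ((6, false, [(3, -9, 284, 0), (2, 5, 41, 32), (1, 3, 11, 0)], 20, 2, 30, 0), 131072),
  ((6, false, [(3, -9, -228, -256), (2, 5, 41, 32), (1, 3, 9, 8)], 22, 0, 30, 0), 65536),
  ((6, false, [(3, -9, -228, 256), (2, 5, 41, 32), (1, 3, 9, -8)], 22, 0, 30, 0), 65536)]

/-- the coset of the class 20 -/
def T20 : List (Row × ℕ) := [
  ((12, true, [(6, 23, 2300, -2048), (4, -4, 5, -4), (3, 7, -20, 0), (2, -4, 5, 4), (1, 4, 1, 0)], 6, 4, 0, 0), 5242880),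
  ((6, false, [(3, 7, 12, 0), (2, -4, 5, -4), (1, 4, -3, 0)], 2, 8, 0, 0), 2621440),
  ((6, false, [(3, 7, 140, -128), (2, -4, 5, -4), (1, 4, 5, 4)], 10, 0, 0, 0), 262144),
  ((6, false, [(3, 7, 140, 128), (2, -4, 5, -4), (1, 4, 5, -4)], 10, 0, 0, 0), 262144)]

/-- the coset of the class 21 -/
def T21 : List (Row × ℕ) := [
  ((14, false, [(7, 23, -516, 0), (2, 2, 4, 4), (1, 2, 2, 0)], 6, 2, 4, 4), 2097152),
  ((14, false, [(7, 23, 252, 0), (2, 2, 4, 4), (1, 2, 0, 0)], 4, 4, 4, 4), 2097152),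
  ((28, true, [(14, 23, 2300, -2048), (7, 23, -100, 0), (4, 2, 4, 4), (2, 2, 4, -4), (1, 2, -2, 0)], 2, 6, 4, 4), 2097152),
  ((28, true, [(14, 23, 2300, -2048), (7, 23, 28, 0), (4, 2, 4, 4), (2, 2, 4, -4), (1, 2, 0, 0)], 4, 4, 0, 8), 1048576),
  ((14, false, [(7, 23, -4, 0), (2, 2, 4, 4), (1, 2, -4, 0)], 0, 8, 8, 0), 524288),
  ((7, false, [(1, 2, 4, 4)], 8, 0, 8, 0), 262144),
  ((14, true, [(7, 23, 2300, -2048), (2, 2, 4, 4), (1, 2, 4, -4)], 8, 0, 8, 0), 262144)]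

/-- the coset of the class 22 -/
def T22 : List (Row × ℕ) := [
  ((16, false, [(8, 23, 252, 0), (4, 7, 12, 0), (2, 3, 8, 0), (1, -3, -2, 0)], 12, 8, 14, 16), 3145728),
  ((16, false, [(8, 23, 252, 0), (4, 7, 12, 0), (2, 3, 8, 0), (1, -3, 2, 0)], 8, 12, 14, 16), 3145728),
  ((8, false, [(4, 7, 140, 128), (2, 3, 16, 0), (1, -3, -2, 0)], 12, 8, 14, 16), 393216),
  ((8, false, [(4, 7, 140, -128), (2, 3, 32, 0), (1, -3, 6, 0)], 4, 16, 22, 8), 393216),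
  ((8, false, [(4, 7, 140, -128), (2, 3, 0, 0), (1, -3, 2, 0)], 8, 12, 14, 16), 393216),
  ((8, false, [(4, 7, 140, 128), (2, 3, 16, 32), (1, -3, -6, 0)], 16, 4, 22, 8), 393216),
  ((8, false, [(4, 7, 140, -128), (2, 3, 32, 0), (1, -3, -2, 0)], 12, 8, 6, 24), 131072),
  ((8, false, [(4, 7, 140, -128), (2, 3, 0, 0), (1, -3, 10, 0)], 0, 20, 30, 0), 131072),
  ((8, false, [(4, 7, 140, 128), (2, 3, 16, -32), (1, -3, 2, 0)], 8, 12, 6, 24), 131072),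
  ((8, false, [(4, 7, 140, 128), (2, 3, 16, 0), (1, -3, -10, 8)], 20, 0, 30, 0), 65536),
  ((8, false, [(4, 7, 140, 128), (2, 3, 16, 0), (1, -3, -10, -8)], 20, 0, 30, 0), 65536)]

/-- the coset of the class 23 -/
def T23 : List (Row × ℕ) := [
  ((8, false, [(4, -9, 28, 0), (2, -1, -4, 0), (1, -1, 0, 0)], 0, 0, 2, 4), 4194304),
  ((16, true, [(8, 23, 2300, -2048), (4, -9, 28, 0), (2, -1, 4, 0), (1, -1, 0, 0)], 0, 0, 2, 4), 2097152),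
  ((8, false, [(4, -9, 28, 0), (2, -1, 4, 0), (1, -1, 0, 0)], 0, 0, 6, 0), 1048576),
  ((8, false, [(4, -9, -228, 256), (2, -1, 4, 0), (1, -1, 0, 0)], 0, 0, 6, 0), 524288),
  ((8, false, [(4, -9, 284, 0), (2, -1, 4, 16), (1, -1, 0, 4)], 0, 0, 6, 0), 262144),
  ((8, false, [(4, -9, 284, 0), (2, -1, 4, 16), (1, -1, 0, -4)], 0, 0, 6, 0), 262144)]

/-- the coset of the class 24 -/
def T24 : List (Row × ℕ) := [
  ((16, true, [(8, 23, 2300, -2048), (4, -9, 28, 0), (2, 7, 4, 0), (1, -1, 0, 0)], 4, 4, 6, 8), 3145728),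
  ((8, false, [(4, -9, 28, 0), (2, 7, -4, 0), (1, -1, 0, 0)], 4, 4, 6, 8), 3145728),
  ((16, true, [(8, 23, 2300, -2048), (4, -9, 28, 0), (2, 7, 4, 0), (1, -1, -4, 0)], 8, 0, 6, 8), 524288),
  ((8, false, [(4, -9, -228, 256), (2, 7, 28, 0), (1, -1, 4, 0)], 0, 8, 14, 0), 524288),
  ((16, true, [(8, 23, 2300, -2048), (4, -9, 28, 0), (2, 7, 4, 0), (1, -1, 4, 0)], 0, 8, 6, 8), 524288),
  ((8, false, [(4, -9, 284, 0), (2, 7, 28, 16), (1, -1, -4, 4)], 8, 0, 14, 0), 262144),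
  ((8, false, [(4, -9, 284, 0), (2, 7, 28, 16), (1, -1, -4, -4)], 8, 0, 14, 0), 262144)]

/-- the coset of the class 25 -/
def T25 : List (Row × ℕ) := [
  ((16, false, [(8, 23, -4, 0), (4, 7, -4, 0), (2, 3, -4, 0), (1, 1, 0, 0)], 2, 2, 2, 4), 2097152),
  ((16, false, [(8, 23, -4, 0), (4, 7, -4, 0), (2, 3, 4, 0), (1, 1, 0, 0)], 2, 2, 2, 4), 2097152),
  ((16, false, [(8, 23, 252, 0), (4, 7, 12, 0), (2, 3, 0, 0), (1, 1, 2, 0)], 4, 0, 2, 4), 1048576),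
  ((16, false, [(8, 23, 252, 0), (4, 7, 12, 0), (2, 3, 8, 0), (1, 1, -2, 0)], 0, 4, 6, 0), 1048576),
  ((8, false, [(4, 7, 140, 128), (2, 3, 8, 0), (1, 1, -2, 0)], 0, 4, 2, 4), 524288),
  ((8, false, [(4, 7, 12, 0), (2, 3, 16, 16), (1, 1, 2, 0)], 4, 0, 6, 0), 524288),
  ((8, false, [(4, 7, 140, -128), (2, 3, -8, 0), (1, 1, -2, 0)], 0, 4, 2, 4), 524288),
  ((8, false, [(4, 7, 12, 0), (2, 3, 0, 0), (1, 1, 2, 4)], 4, 0, 6, 0), 262144),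
  ((8, false, [(4, 7, 12, 0), (2, 3, 0, 0), (1, 1, 2, -4)], 4, 0, 6, 0), 262144)]

/-- the coset of the class 26 -/
def T26 : List (Row × ℕ) := [
  ((16, false, [(8, 23, 252, 0), (4, 7, 12, 0), (2, 3, 0, 0), (1, 1, -2, 0)], 4, 8, 6, 8), 2097152),
  ((16, false, [(8, 23, 252, 0), (4, 7, 12, 0), (2, 3, 0, 0), (1, 1, 2, 0)], 8, 4, 6, 8), 2097152),
  ((16, false, [(8, 23, 252, 0), (4, 7, 12, 0), (2, 3, 8, 0), (1, 1, 2, 0)], 4, 8, 6, 8), 1048576),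
  ((16, false, [(8, 23, 252, 0), (4, 7, 12, 0), (2, 3, 8, 0), (1, 1, -2, 0)], 8, 4, 6, 8), 1048576),
  ((8, false, [(4, 7, 140, 128), (2, 3, 16, 0), (1, 1, 2, 0)], 4, 8, 6, 8), 262144),
  ((8, false, [(4, 7, 140, 128), (2, 3, 16, 32), (1, 1, -2, 0)], 8, 4, 14, 0), 262144),
  ((8, false, [(4, 7, 140, -128), (2, 3, 0, 0), (1, 1, -2, 0)], 8, 4, 6, 8), 262144),
  ((8, false, [(4, 7, 140, -128), (2, 3, 32, 0), (1, 1, 2, 0)], 4, 8, 14, 0), 262144),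
  ((8, false, [(4, 7, 140, 128), (2, 3, 16, 0), (1, 1, -6, 0)], 4, 8, 14, 0), 131072),
  ((8, false, [(4, 7, 140, 128), (2, 3, 16, 32), (1, 1, 6, 0)], 8, 4, 6, 8), 131072),
  ((8, false, [(4, 7, 140, 128), (2, 3, 16, -32), (1, 1, -2, 0)], 0, 12, 6, 8), 131072),
  ((8, false, [(4, 7, 140, -128), (2, 3, 0, 0), (1, 1, -2, 0)], 0, 12, 14, 0), 131072),
  ((8, false, [(4, 7, 140, -128), (2, 3, 0, 0), (1, 1, 6, 0)], 8, 4, 14, 0), 131072),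
  ((8, false, [(4, 7, 140, -128), (2, 3, 32, 0), (1, 1, -6, 0)], 4, 8, 6, 8), 131072),
  ((8, false, [(4, 7, 140, -128), (2, 3, 32, 0), (1, 1, 2, 0)], 12, 0, 6, 8), 131072),
  ((8, false, [(4, 7, 140, 128), (2, 3, 16, 0), (1, 1, 2, 8)], 12, 0, 14, 0), 65536),
  ((8, false, [(4, 7, 140, 128), (2, 3, 16, 0), (1, 1, 2, -8)], 12, 0, 14, 0), 65536)]

/-- the coset of the class 27 -/
def T27 : List (Row × ℕ) := [
  ((16, true, [(8, 23, 2300, -2048), (4, -9, 28, 0), (2, -1, 4, 0), (1, 3, 0, 0)], 4, 4, 2, 4), 6291456),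
  ((8, false, [(4, -9, 28, 0), (2, -1, 4, 0), (1, 3, -4, 0)], 0, 8, 6, 0), 1048576),
  ((8, false, [(4, -9, -228, 256), (2, -1, 4, 0), (1, 3, 4, 0)], 8, 0, 6, 0), 524288),
  ((8, false, [(4, -9, 284, 0), (2, -1, 4, 16), (1, 3, 4, 4)], 8, 0, 6, 0), 262144),
  ((8, false, [(4, -9, 284, 0), (2, -1, 4, 16), (1, 3, 4, -4)], 8, 0, 6, 0), 262144)]

/-- the coset of the class 28 -/
def T28 : List (Row × ℕ) := [
  ((18, false, [(9, 23, -516, 0), (6, -4, 5, -4), (3, -4, -3, 0), (2, 2, 2, 2), (1, 2, 0, 0)], 2, 2, 0, 0), 4194304),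
  ((36, true, [(18, 23, 2300, -2048), (12, -4, 5, -4), (9, 23, 28, 0), (6, -4, 5, 4), (4, 2, 2, 2), (3, -4, 1, 0), (2, 2, 2, -2), (1, 2, -2, 0)], 0, 4, 0, 0), 2097152),
  ((9, false, [(3, -4, 5, -4), (1, 2, 2, 2)], 4, 0, 0, 0), 1048576),
  ((18, true, [(9, 23, 2300, -2048), (6, -4, 5, -4), (3, -4, 5, 4), (2, 2, 2, 2), (1, 2, 2, -2)], 4, 0, 0, 0), 1048576)]

/-- the coset of the class 29 -/
def T29 : List (Row × ℕ) := [
  ((40, true, [(20, 23, 2300, -2048), (10, 23, 28, 0), (8, 3, 10, 8), (5, -1, 0, 0), (4, 3, 10, -8), (2, 3, -2, 0), (1, -1, 0, 0)], 2, 2, 2, 4), 2097152),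
  ((20, false, [(10, 23, 252, 0), (5, -1, -20, 0), (4, 3, 10, 8), (2, 3, 2, 0), (1, -1, 0, 0)], 2, 2, 2, 4), 1048576),
  ((10, false, [(5, -1, 20, 0), (2, 3, 10, 8), (1, -1, 0, 0)], 2, 2, 6, 0), 1048576),
  ((40, true, [(20, 23, 2300, -2048), (10, 23, 28, 0), (8, 3, 10, 8), (5, -1, -8, 0), (4, 3, 10, -8), (2, 3, -2, 0), (1, -1, 2, 0)], 0, 4, 2, 4), 1048576),
  ((40, true, [(20, 23, 2300, -2048), (10, 23, 28, 0), (8, 3, 10, 8), (5, -1, 8, 0), (4, 3, 10, -8), (2, 3, -2, 0), (1, -1, -2, 0)], 4, 0, 2, 4), 1048576),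
  ((20, false, [(10, 23, 252, 0), (5, -1, 52, 0), (4, 3, 10, 8), (2, 3, 2, 0), (1, -1, 2, 0)], 0, 4, 6, 0), 524288),
  ((20, true, [(10, 23, 2300, -2048), (5, -1, 12, 0), (4, 3, 10, 8), (2, 3, 10, -8), (1, -1, 2, 0)], 0, 4, 2, 4), 524288),
  ((10, false, [(5, -1, -52, 0), (2, 3, 10, 8), (1, -1, -2, 0)], 4, 0, 2, 4), 524288),
  ((20, false, [(10, 23, 252, 0), (5, -1, -12, 64), (4, 3, 10, 8), (2, 3, 2, 0), (1, -1, -2, 4)], 4, 0, 6, 0), 262144),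
  ((20, false, [(10, 23, 252, 0), (5, -1, -12, -64), (4, 3, 10, 8), (2, 3, 2, 0), (1, -1, -2, -4)], 4, 0, 6, 0), 262144)]

/-- the coset of the class 30 -/
def T30 : List (Row × ℕ) := [
  ((20, false, [(10, 23, 252, 0), (5, -9, 20, 0), (4, 3, 10, 8), (2, 3, 2, 0), (1, 1, 0, 0)], 2, 6, 2, 4), 1572864),
  ((20, false, [(10, 23, 252, 0), (5, -9, -12, 0), (4, 3, 10, 8), (2, 3, 2, 0), (1, 1, -2, 0)], 4, 4, 2, 4), 1572864),
  ((20, false, [(10, 23, 252, 0), (5, -9, -68, 0), (4, 3, 10, 8), (2, 3, 2, 0), (1, 1, 2, 0)], 4, 4, 2, 4), 1572864),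
  ((20, false, [(10, 23, 252, 0), (5, -9, 60, 0), (4, 3, 10, 8), (2, 3, 2, 0), (1, 1, 0, 0)], 6, 2, 2, 4), 1572864),
  ((10, false, [(5, -9, 284, 0), (2, 3, 10, 8), (1, 1, 4, 0)], 6, 2, 6, 0), 524288),
  ((10, false, [(5, -9, -44, 0), (2, 3, 10, 8), (1, 1, -4, 0)], 2, 6, 6, 0), 524288),
  ((20, true, [(10, 23, 2300, -2048), (5, -9, -12, 0), (4, 3, 10, 8), (2, 3, 10, -8), (1, 1, -2, 0)], 0, 8, 6, 0), 524288),
  ((10, false, [(5, -9, -228, -256), (2, 3, 10, 8), (1, 1, 2, 4)], 8, 0, 6, 0), 262144),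
  ((10, false, [(5, -9, -228, 256), (2, 3, 10, 8), (1, 1, 2, -4)], 8, 0, 6, 0), 262144)]

/-- the coset of the class 31 -/
def T31 : List (Row × ℕ) := [
  ((20, true, [(10, 23, 2300, -2048), (5, 7, -20, 0), (4, -2, 0, -2), (2, -2, 0, 2), (1, 2, 0, 0)], 0, 0, 0, 0), 6291456),
  ((10, false, [(5, 7, 140, -128), (2, -2, 0, -2), (1, 2, 0, 2)], 0, 0, 0, 0), 1048576),
  ((10, false, [(5, 7, 140, 128), (2, -2, 0, -2), (1, 2, 0, -2)], 0, 0, 0, 0), 1048576)]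

/-- the coset of the class 32 -/
def T32 : List (Row × ℕ) := [
  ((44, true, [(22, 23, 2300, -2048), (11, 23, -100, 0), (4, 1, 1, 2), (2, 1, 1, -2), (1, 1, -1, 0)], 0, 2, 0, 2), 2097152),
  ((22, false, [(11, 23, 252, 0), (2, 1, 1, 2), (1, 1, -1, 0)], 0, 2, 2, 0), 2097152),
  ((22, false, [(11, 23, -516, 0), (2, 1, 1, 2), (1, 1, 1, 0)], 2, 0, 0, 2), 2097152),
  ((11, false, [(1, 1, 1, 2)], 2, 0, 2, 0), 1048576),
  ((22, true, [(11, 23, 2300, -2048), (2, 1, 1, 2), (1, 1, 1, -2)], 2, 0, 2, 0), 1048576)]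

/-- the coset of the class 33 -/
def T33 : List (Row × ℕ) := [
  ((24, false, [(12, 23, 252, 0), (8, 5, 41, 32), (6, 7, 44, 0), (4, 5, 9, 0), (3, 3, -4, 0), (2, 1, 5, 0), (1, -3, -1, 0)], 6, 4, 2, 4), 3145728),
  ((24, false, [(12, 23, 252, 0), (8, 5, 41, 32), (6, 7, 44, 0), (4, 5, 9, 0), (3, 3, 4, 0), (2, 1, 5, 0), (1, -3, 1, 0)], 4, 6, 2, 4), 3145728),
  ((12, false, [(6, 7, 140, 128), (4, 5, 41, 32), (3, 3, -24, 0), (2, 1, 5, 8), (1, -3, -3, 0)], 8, 2, 6, 0), 524288),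
  ((12, false, [(6, 7, 140, 128), (4, 5, 41, 32), (3, 3, -24, 0), (2, 1, 5, 8), (1, -3, 3, 0)], 2, 8, 6, 0), 524288),
  ((12, false, [(6, 7, 140, -128), (4, 5, 41, 32), (3, 3, 32, 0), (2, 1, 5, -8), (1, -3, 5, 0)], 0, 10, 6, 0), 524288),
  ((12, false, [(6, 7, 140, 128), (4, 5, 41, 32), (3, 3, 16, -32), (2, 1, 5, 8), (1, -3, -5, 4)], 10, 0, 6, 0), 262144),
  ((12, false, [(6, 7, 140, 128), (4, 5, 41, 32), (3, 3, 16, 32), (2, 1, 5, 8), (1, -3, -5, -4)], 10, 0, 6, 0), 262144)]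

/-- the coset of the class 34 -/
def T34 : List (Row × ℕ) := [
  ((24, true, [(12, 23, 2300, -2048), (8, -4, 5, -4), (6, -9, 28, 0), (4, -4, 5, 4), (3, 7, -28, 0), (2, 0, 1, 0), (1, -2, -1, 0)], 0, 2, 0, 0), 4194304),
  ((12, false, [(6, -9, -228, 256), (4, -4, 5, -4), (3, 7, 28, 0), (2, 0, -3, 4), (1, -2, 1, 0)], 2, 0, 0, 0), 2097152),
  ((12, false, [(6, -9, 284, 0), (4, -4, 5, -4), (3, 7, 28, -16), (2, 0, 5, 0), (1, -2, 1, 2)], 2, 0, 0, 0), 1048576),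
  ((12, false, [(6, -9, 284, 0), (4, -4, 5, -4), (3, 7, 28, 16), (2, 0, 5, 0), (1, -2, 1, -2)], 2, 0, 0, 0), 1048576)]

/-- the coset of the class 35 -/
def T35 : List (Row × ℕ) := [
  ((24, false, [(12, 23, -4, 0), (8, 5, 41, 32), (6, 7, 28, 0), (4, 5, -7, 0), (3, -1, -4, 0), (2, 1, 1, 0), (1, -1, -1, 0)], 2, 4, 2, 4), 2097152),
  ((24, false, [(12, 23, -4, 0), (8, 5, 41, 32), (6, 7, 28, 0), (4, 5, -7, 0), (3, -1, 4, 0), (2, 1, 1, 0), (1, -1, 1, 0)], 4, 2, 2, 4), 2097152),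
  ((12, false, [(6, 7, 140, 128), (4, 5, 41, 32), (3, -1, 12, 0), (2, 1, 5, 8), (1, -1, 3, 0)], 2, 4, 6, 0), 524288),
  ((12, false, [(6, 7, 140, -128), (4, 5, 41, 32), (3, -1, 4, 0), (2, 1, 5, -8), (1, -1, 1, 0)], 0, 6, 2, 4), 524288),
  ((12, false, [(6, 7, 140, 128), (4, 5, 41, 32), (3, -1, -12, 0), (2, 1, 5, 8), (1, -1, -3, 0)], 4, 2, 2, 4), 524288),
  ((24, false, [(12, 23, 252, 0), (8, 5, 41, 32), (6, 7, 44, 0), (4, 5, 9, 0), (3, -1, 0, 0), (2, 1, 5, 0), (1, -1, -3, 0)], 4, 2, 6, 0), 524288),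
  ((24, false, [(12, 23, 252, 0), (8, 5, 41, 32), (6, 7, 44, 0), (4, 5, 9, 0), (3, -1, -8, 0), (2, 1, 5, 0), (1, -1, 1, 0)], 0, 6, 6, 0), 524288),
  ((24, false, [(12, 23, 252, 0), (8, 5, 41, 32), (6, 7, 44, 0), (4, 5, 9, 0), (3, -1, 0, 0), (2, 1, 5, 0), (1, -1, 3, 0)], 2, 4, 2, 4), 524288),
  ((24, false, [(12, 23, 252, 0), (8, 5, 41, 32), (6, 7, 44, 0), (4, 5, 9, 0), (3, -1, 8, 0), (2, 1, 5, 0), (1, -1, -1, 0)], 6, 0, 2, 4), 524288),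
  ((12, false, [(6, 7, 140, 128), (4, 5, 41, 32), (3, -1, -4, 16), (2, 1, 5, 8), (1, -1, -1, 4)], 6, 0, 6, 0), 262144),
  ((12, false, [(6, 7, 140, 128), (4, 5, 41, 32), (3, -1, -4, -16), (2, 1, 5, 8), (1, -1, -1, -4)], 6, 0, 6, 0), 262144)]

/-- the coset of the class 36 -/
def T36 : List (Row × ℕ) := [
  ((24, true, [(12, 23, 2300, -2048), (8, -4, 5, -4), (6, 7, -20, 0), (4, -4, 5, 4), (3, 3, -4, 0), (2, 4, 1, 0), (1, 0, -1, 0)], 0, 2, 0, 0), 4194304),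
  ((12, false, [(6, 7, 140, -128), (4, -4, 5, -4), (3, 3, -8, 0), (2, 4, 5, 4), (1, 0, 1, 0)], 2, 0, 0, 0), 2097152),
  ((12, false, [(6, 7, 12, 0), (4, -4, 5, -4), (3, 3, 16, -16), (2, 4, -3, 0), (1, 0, 1, 2)], 2, 0, 0, 0), 1048576),
  ((12, false, [(6, 7, 12, 0), (4, -4, 5, -4), (3, 3, 16, 16), (2, 4, -3, 0), (1, 0, 1, -2)], 2, 0, 0, 0), 1048576)]

/-- the coset of the class 37 -/
def T37 : List (Row × ℕ) := [
  ((12, false, [(6, 7, 140, -128), (4, -4, 5, -4), (3, 3, -8, 0), (2, 4, 5, 4), (1, 0, 1, 0)], 6, 4, 0, 0), 3145728),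
  ((12, false, [(6, 7, 140, 128), (4, -4, 5, -4), (3, 3, 16, 0), (2, 4, 5, -4), (1, 0, 1, 0)], 2, 8, 0, 0), 1572864),
  ((12, false, [(6, 7, 140, -128), (4, -4, 5, -4), (3, 3, 0, 0), (2, 4, 5, 4), (1, 0, -3, 0)], 6, 4, 0, 0), 1572864),
  ((12, false, [(6, 7, 140, 128), (4, -4, 5, -4), (3, 3, -24, 0), (2, 4, 5, -4), (1, 0, -3, 0)], 2, 8, 0, 0), 1048576),
  ((12, false, [(6, 7, 140, -128), (4, -4, 5, -4), (3, 3, 32, 0), (2, 4, 5, 4), (1, 0, 5, 0)], 6, 4, 0, 0), 524288),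
  ((12, false, [(6, 7, 140, 128), (4, -4, 5, -4), (3, 3, 16, -32), (2, 4, 5, -4), (1, 0, 1, 4)], 10, 0, 0, 0), 262144),
  ((12, false, [(6, 7, 140, 128), (4, -4, 5, -4), (3, 3, 16, 32), (2, 4, 5, -4), (1, 0, 1, -4)], 10, 0, 0, 0), 262144)]

/-- the coset of the class 38 -/
def T38 : List (Row × ℕ) := [
  ((24, true, [(12, 23, 2300, -2048), (8, 5, 41, 32), (6, -9, 28, 0), (4, 5, 41, -32), (3, 7, 4, 0), (2, -3, 1, 0), (1, 1, 1, 0)], 2, 0, 2, 4), 3145728),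
  ((12, false, [(6, -9, 28, 0), (4, 5, 41, 32), (3, 7, -4, 0), (2, -3, 1, 0), (1, 1, -1, 0)], 0, 2, 2, 4), 3145728),
  ((24, true, [(12, 23, 2300, -2048), (8, 5, 41, 32), (6, -9, 28, 0), (4, 5, 41, -32), (3, 7, -28, 0), (2, -3, 1, 0), (1, 1, -1, 0)], 0, 2, 6, 0), 1048576),
  ((12, false, [(6, -9, -228, 256), (4, 5, 41, 32), (3, 7, 28, 0), (2, -3, -15, 16), (1, 1, 1, 0)], 2, 0, 6, 0), 524288),
  ((12, false, [(6, -9, 284, 0), (4, 5, 41, 32), (3, 7, 28, 16), (2, -3, 17, 0), (1, 1, 1, 4)], 2, 0, 6, 0), 262144),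
  ((12, false, [(6, -9, 284, 0), (4, 5, 41, 32), (3, 7, 28, -16), (2, -3, 17, 0), (1, 1, 1, -4)], 2, 0, 6, 0), 262144)]

/-- the coset of the class 39 -/
def T39 : List (Row × ℕ) := [
  ((24, false, [(12, 23, 252, 0), (8, 5, 41, 32), (6, 7, 12, 0), (4, 5, 9, 0), (3, -5, -16, 0), (2, 1, -3, 0), (1, 1, -1, 0)], 2, 0, 2, 4), 2097152),
  ((24, false, [(12, 23, 252, 0), (8, 5, 41, 32), (6, 7, 12, 0), (4, 5, 9, 0), (3, -5, 16, 0), (2, 1, -3, 0), (1, 1, 1, 0)], 0, 2, 2, 4), 2097152),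
  ((24, false, [(12, 23, 252, 0), (8, 5, 41, 32), (6, 7, 44, 0), (4, 5, 9, 0), (3, -5, 4, 0), (2, 1, 5, 0), (1, 1, 1, 0)], 0, 2, 2, 4), 1048576),
  ((24, false, [(12, 23, 252, 0), (8, 5, 41, 32), (6, 7, 44, 0), (4, 5, 9, 0), (3, -5, -4, 0), (2, 1, 5, 0), (1, 1, -1, 0)], 2, 0, 2, 4), 1048576),
  ((12, false, [(6, 7, 140, 128), (4, 5, 41, 32), (3, -5, 16, 0), (2, 1, 5, 8), (1, 1, 1, 0)], 0, 2, 6, 0), 524288),
  ((12, false, [(6, 7, 140, -128), (4, 5, 41, 32), (3, -5, 40, 0), (2, 1, 5, -8), (1, 1, 1, 0)], 0, 2, 6, 0), 524288),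
  ((12, false, [(6, 7, 140, 128), (4, 5, 41, 32), (3, -5, -16, 0), (2, 1, 5, 8), (1, 1, -1, 0)], 2, 0, 6, 0), 524288),
  ((12, false, [(6, 7, 140, 128), (4, 5, 41, 32), (3, -5, -40, -32), (2, 1, 5, 8), (1, 1, -1, 4)], 2, 0, 6, 0), 262144),
  ((12, false, [(6, 7, 140, 128), (4, 5, 41, 32), (3, -5, -40, 32), (2, 1, 5, 8), (1, 1, -1, -4)], 2, 0, 6, 0), 262144)]

/-- the coset of the class 40 -/
def T40 : List (Row × ℕ) := [
  ((24, true, [(12, 23, 2300, -2048), (8, -4, 5, -4), (6, -9, 28, 0), (4, -4, 5, 4), (3, -1, -4, 0), (2, 0, 1, 0), (1, 2, -1, 0)], 0, 2, 0, 0), 4194304),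
  ((12, false, [(6, -9, -228, 256), (4, -4, 5, -4), (3, -1, 4, 0), (2, 0, -3, 4), (1, 2, 1, 0)], 2, 0, 0, 0), 2097152),
  ((12, false, [(6, -9, 284, 0), (4, -4, 5, -4), (3, -1, 4, -16), (2, 0, 5, 0), (1, 2, 1, 2)], 2, 0, 0, 0), 1048576),
  ((12, false, [(6, -9, 284, 0), (4, -4, 5, -4), (3, -1, 4, 16), (2, 0, 5, 0), (1, 2, 1, -2)], 2, 0, 0, 0), 1048576)]

/-- the coset of the class 41 -/
def T41 : List (Row × ℕ) := [
  ((14, false, [(7, -9, 28, 0), (2, 2, 4, 4), (1, -2, 0, 0)], 4, 4, 4, 4), 2097152),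
  ((14, false, [(7, -9, -44, 0), (2, 2, 4, 4), (1, -2, -2, 0)], 6, 2, 4, 4), 2097152),
  ((28, true, [(14, 23, 2300, -2048), (7, -9, -12, 0), (4, 2, 4, 4), (2, 2, 4, -4), (1, -2, 2, 0)], 2, 6, 4, 4), 2097152),
  ((28, true, [(14, 23, 2300, -2048), (7, -9, 28, 0), (4, 2, 4, 4), (2, 2, 4, -4), (1, -2, 0, 0)], 4, 4, 0, 8), 1048576),
  ((14, false, [(7, -9, 284, 0), (2, 2, 4, 4), (1, -2, 4, 0)], 0, 8, 8, 0), 524288),
  ((14, false, [(7, -9, -228, 256), (2, 2, 4, 4), (1, -2, -4, 4)], 8, 0, 8, 0), 262144),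
  ((14, false, [(7, -9, -228, -256), (2, 2, 4, 4), (1, -2, -4, -4)], 8, 0, 8, 0), 262144)]

/-- the coset of the class 42 -/
def T42 : List (Row × ℕ) := [
  ((28, false, [(14, 23, 252, 0), (7, 7, -28, 0), (4, 2, 4, 4), (2, 2, 0, 0), (1, 0, 0, 0)], 0, 0, 2, 2), 2097152),
  ((28, false, [(14, 23, 252, 0), (7, 7, -84, 0), (4, 2, 4, 4), (2, 2, 0, 0), (1, 0, 0, 0)], 0, 0, 2, 2), 2097152),
  ((28, false, [(14, 23, -4, 0), (7, 7, 28, 0), (4, 2, 4, 4), (2, 2, -4, 0), (1, 0, 0, 0)], 0, 0, 0, 4), 2097152),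
  ((14, false, [(7, 7, 140, 128), (2, 2, 4, 4), (1, 0, 0, 2)], 0, 0, 4, 0), 1048576),
  ((14, false, [(7, 7, 140, -128), (2, 2, 4, 4), (1, 0, 0, -2)], 0, 0, 4, 0), 1048576)]

/-- the coset of the class 43 -/
def T43 : List (Row × ℕ) := [
  ((30, false, [(15, 23, -4, 0), (10, 5, 41, 32), (6, 3, 10, 8), (5, 5, -1, 0), (3, 3, -4, 0), (2, 0, 1, 2), (1, 0, -1, 0)], 0, 2, 0, 0), 2097152),
  ((30, false, [(15, 23, -516, 0), (10, 5, 41, 32), (6, 3, 10, 8), (5, 5, -39, 0), (3, 3, 4, 0), (2, 0, 1, 2), (1, 0, 1, 0)], 2, 0, 0, 0), 2097152),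
  ((60, true, [(30, 23, 2300, -2048), (20, 5, 41, 32), (15, 23, -100, 0), (12, 3, 10, 8), (10, 5, 41, -32), (6, 3, 10, -8), (5, 5, -1, 0), (4, 0, 1, 2), (3, 3, -10, 0), (2, 0, 1, -2), (1, 0, -1, 0)], 0, 2, 0, 0), 2097152),
  ((15, false, [(5, 5, 41, 32), (3, 3, 10, 8), (1, 0, 1, 2)], 2, 0, 0, 0), 1048576),
  ((30, true, [(15, 23, 2300, -2048), (10, 5, 41, 32), (6, 3, 10, 8), (5, 5, 41, -32), (3, 3, 10, -8), (2, 0, 1, 2), (1, 0, 1, -2)], 2, 0, 0, 0), 1048576)]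

/-- the coset of the class 44 -/
def T44 : List (Row × ℕ) := [
  ((15, false, [(5, -4, 5, -4), (3, -2, 0, -2), (1, 1, 0, 1)], 0, 0, 0, 0), 4194304),
  ((30, true, [(15, 23, 2300, -2048), (10, -4, 5, -4), (6, -2, 0, -2), (5, -4, 5, 4), (3, -2, 0, 2), (2, 1, 0, 1), (1, 1, 0, -1)], 0, 0, 0, 0), 4194304)]

/-- the coset of the class 45 -/
def T45 : List (Row × ℕ) := [
  ((32, true, [(16, 23, 2300, -2048), (8, -9, 28, 0), (4, -1, 4, 0), (2, 3, 0, 0), (1, -1, 0, 0)], 2, 2, 0, 2), 4194304),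
  ((16, false, [(8, -9, -228, 256), (4, -1, 4, 0), (2, 3, 4, 0), (1, -1, 2, 0)], 0, 4, 2, 0), 2097152),
  ((16, false, [(8, -9, 284, 0), (4, -1, 4, 16), (2, 3, 4, 4), (1, -1, -2, 2)], 4, 0, 2, 0), 1048576),
  ((16, false, [(8, -9, 284, 0), (4, -1, 4, 16), (2, 3, 4, 4), (1, -1, -2, -2)], 4, 0, 2, 0), 1048576)]

/-- the coset of the class 46 -/
def T46 : List (Row × ℕ) := [
  ((32, true, [(16, 23, 2300, -2048), (8, -9, 28, 0), (4, -1, 4, 0), (2, -1, 0, 0), (1, 1, 0, 0)], 0, 0, 0, 2), 4194304),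
  ((16, false, [(8, -9, -228, 256), (4, -1, 4, 0), (2, -1, 0, 0), (1, 1, 0, 0)], 0, 0, 2, 0), 2097152),
  ((16, false, [(8, -9, 284, 0), (4, -1, 4, 16), (2, -1, 0, 4), (1, 1, 0, 2)], 0, 0, 2, 0), 1048576),
  ((16, false, [(8, -9, 284, 0), (4, -1, 4, 16), (2, -1, 0, 4), (1, 1, 0, -2)], 0, 0, 2, 0), 1048576)]

/-- the coset of the class 47 -/
def T47 : List (Row × ℕ) := [
  ((36, true, [(18, 23, 2300, -2048), (12, -4, 5, -4), (9, -9, -12, 0), (6, -4, 5, 4), (4, 2, 2, 2), (3, 0, -3, 0), (2, 2, 2, -2), (1, 0, 0, 0)], 0, 4, 0, 0), 2097152),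
  ((18, false, [(9, -9, -44, 0), (6, -4, 5, -4), (3, 0, 1, 0), (2, 2, 2, 2), (1, 0, -2, 0)], 2, 2, 0, 0), 2097152),
  ((18, false, [(9, -9, 284, 0), (6, -4, 5, -4), (3, 0, 5, 0), (2, 2, 2, 2), (1, 0, 2, 0)], 2, 2, 0, 0), 2097152),
  ((18, false, [(9, -9, -228, -256), (6, -4, 5, -4), (3, 0, -3, -4), (2, 2, 2, 2), (1, 0, 0, 2)], 4, 0, 0, 0), 1048576),
  ((18, false, [(9, -9, -228, 256), (6, -4, 5, -4), (3, 0, -3, 4), (2, 2, 2, 2), (1, 0, 0, -2)], 4, 0, 0, 0), 1048576)]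

/-- the coset of the class 48 -/
def T48 : List (Row × ℕ) := [
  ((20, false, [(10, -1, -52, 0), (5, -1, 0, 0), (4, 3, 10, 8), (2, -1, -2, 0), (1, -1, 0, 0)], 0, 0, 0, 2), 2097152),
  ((40, false, [(20, 23, 252, 0), (10, -1, -12, 64), (8, 3, 10, 8), (5, -1, 0, 0), (4, 3, 2, 0), (2, -1, -2, 4), (1, -1, 0, 0)], 0, 0, 2, 0), 2097152),
  ((40, true, [(20, 23, 2300, -2048), (10, -1, 12, 0), (8, 3, 10, 8), (5, -1, 0, 0), (4, 3, 10, -8), (2, -1, 2, 0), (1, -1, 0, 0)], 0, 0, 0, 2), 2097152),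
  ((40, false, [(20, 23, 252, 0), (10, -1, 52, 0), (8, 3, 10, 8), (5, -1, 0, -8), (4, 3, 2, 0), (2, -1, 2, 0), (1, -1, 0, 2)], 0, 0, 2, 0), 1048576),
  ((40, false, [(20, 23, 252, 0), (10, -1, 52, 0), (8, 3, 10, 8), (5, -1, 0, 8), (4, 3, 2, 0), (2, -1, 2, 0), (1, -1, 0, -2)], 0, 0, 2, 0), 1048576)]

/-- the coset of the class 49 -/
def T49 : List (Row × ℕ) := [
  ((20, false, [(10, 7, 140, -128), (5, -5, 0, 0), (4, -2, 0, -2), (2, 2, 0, 2), (1, 0, 0, 0)], 0, 0, 0, 0), 4194304),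
  ((20, false, [(10, 7, 140, -128), (5, -5, 40, 0), (4, -2, 0, -2), (2, 2, 0, 2), (1, 0, 0, 0)], 0, 0, 0, 0), 2097152),
  ((20, false, [(10, 7, 140, 128), (5, -5, -40, 32), (4, -2, 0, -2), (2, 2, 0, -2), (1, 0, 0, 2)], 0, 0, 0, 0), 1048576),
  ((20, false, [(10, 7, 140, 128), (5, -5, -40, -32), (4, -2, 0, -2), (2, 2, 0, -2), (1, 0, 0, -2)], 0, 0, 0, 0), 1048576)]

/-- the coset of the class 50 -/
def T50 : List (Row × ℕ) := [
  ((23, false, [(1, 0, 0, 1)], 0, 0, 0, 0), 4194304),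
  ((46, true, [(23, 23, 2300, -2048), (2, 0, 0, 1), (1, 0, 0, -1)], 0, 0, 0, 0), 4194304)]

/-- the coset of the class 51 -/
def T51 : List (Row × ℕ) := [
  ((48, true, [(24, 23, 2300, -2048), (16, 5, 41, 32), (12, -9, 28, 0), (8, 5, 41, -32), (6, 7, 4, 0), (4, -3, 1, 0), (3, -1, -4, 0), (2, 1, 1, 0), (1, -1, -1, 0)], 2, 0, 0, 2), 2097152),
  ((24, false, [(12, -9, -228, 256), (8, 5, 41, 32), (6, 7, 28, 0), (4, -3, -15, 16), (3, -1, 4, 0), (2, 1, 1, 0), (1, -1, 1, 0)], 0, 2, 2, 0), 2097152),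
  ((48, true, [(24, 23, 2300, -2048), (16, 5, 41, 32), (12, -9, 28, 0), (8, 5, 41, -32), (6, 7, 4, 0), (4, -3, 1, 0), (3, -1, 4, 0), (2, 1, 1, 0), (1, -1, 1, 0)], 0, 2, 0, 2), 2097152),
  ((24, false, [(12, -9, 284, 0), (8, 5, 41, 32), (6, 7, 28, 16), (4, -3, 17, 0), (3, -1, -4, -4), (2, 1, 1, 4), (1, -1, -1, 2)], 2, 0, 2, 0), 1048576),
  ((24, false, [(12, -9, 284, 0), (8, 5, 41, 32), (6, 7, 28, 16), (4, -3, 17, 0), (3, -1, -4, 4), (2, 1, 1, 4), (1, -1, -1, -2)], 2, 0, 2, 0), 1048576)]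

/-- the coset of the class 52 -/
def T52 : List (Row × ℕ) := [
  ((24, false, [(12, 7, 140, -128), (8, -4, 5, -4), (6, 3, 32, 0), (4, 4, 5, 4), (3, -3, -2, 0), (2, 0, 5, 0), (1, 0, 1, 0)], 0, 2, 0, 0), 2097152),
  ((24, false, [(12, 7, 140, -128), (8, -4, 5, -4), (6, 3, 0, 0), (4, 4, 5, 4), (3, -3, 10, 0), (2, 0, -3, 0), (1, 0, 1, 0)], 0, 2, 0, 0), 2097152),
  ((24, false, [(12, 7, 140, 128), (8, -4, 5, -4), (6, 3, 16, -32), (4, 4, 5, -4), (3, -3, 2, 0), (2, 0, 1, 4), (1, 0, -1, 0)], 2, 0, 0, 0), 2097152),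
  ((24, false, [(12, 7, 140, 128), (8, -4, 5, -4), (6, 3, 16, 0), (4, 4, 5, -4), (3, -3, -10, 8), (2, 0, 1, 0), (1, 0, -1, 2)], 2, 0, 0, 0), 1048576),
  ((24, false, [(12, 7, 140, 128), (8, -4, 5, -4), (6, 3, 16, 0), (4, 4, 5, -4), (3, -3, -10, -8), (2, 0, 1, 0), (1, 0, -1, -2)], 2, 0, 0, 0), 1048576)]

/-- the coset of the class 53 -/
def T53 : List (Row × ℕ) := [
  ((56, true, [(28, 23, 2300, -2048), (14, -9, 28, 0), (8, 2, 4, 4), (7, 7, -28, 0), (4, 2, 4, -4), (2, -2, 0, 0), (1, 0, 0, 0)], 0, 0, 0, 0), 4194304),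
  ((28, false, [(14, -9, -228, 256), (7, 7, 28, 0), (4, 2, 4, 4), (2, -2, -4, 4), (1, 0, 0, 0)], 0, 0, 0, 0), 2097152),
  ((28, false, [(14, -9, 284, 0), (7, 7, 28, 16), (4, 2, 4, 4), (2, -2, 4, 0), (1, 0, 0, 2)], 0, 0, 0, 0), 1048576),
  ((28, false, [(14, -9, 284, 0), (7, 7, 28, -16), (4, 2, 4, 4), (2, -2, 4, 0), (1, 0, 0, -2)], 0, 0, 0, 0), 1048576)]

/-- the coset of the class 54 -/
def T54 : List (Row × ℕ) := [
  ((60, true, [(30, 23, 2300, -2048), (20, 5, 41, 32), (15, -9, -12, 0), (12, 3, 10, 8), (10, 5, 41, -32), (6, 3, 10, -8), (5, 3, -9, 0), (4, 0, 1, 2), (3, 1, -2, 0), (2, 0, 1, -2), (1, -2, 1, 0)], 0, 2, 0, 0), 2097152),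
  ((30, false, [(15, -9, 284, 0), (10, 5, 41, 32), (6, 3, 10, 8), (5, 3, 11, 0), (3, 1, 4, 0), (2, 0, 1, 2), (1, -2, 1, 0)], 0, 2, 0, 0), 2097152),
  ((30, false, [(15, -9, -44, 0), (10, 5, 41, 32), (6, 3, 10, 8), (5, 3, -11, 0), (3, 1, -4, 0), (2, 0, 1, 2), (1, -2, -1, 0)], 2, 0, 0, 0), 2097152),
  ((30, false, [(15, -9, -228, 256), (10, 5, 41, 32), (6, 3, 10, 8), (5, 3, 9, -8), (3, 1, 2, -4), (2, 0, 1, 2), (1, -2, -1, 2)], 2, 0, 0, 0), 1048576),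
  ((30, false, [(15, -9, -228, -256), (10, 5, 41, 32), (6, 3, 10, 8), (5, 3, 9, 8), (3, 1, 2, 4), (2, 0, 1, 2), (1, -2, -1, -2)], 2, 0, 0, 0), 1048576)]

/-- the coset of the class 55 -/
def T55 : List (Row × ℕ) := [
  ((30, false, [(15, 7, 140, 128), (10, -4, 5, -4), (6, -2, 0, -2), (5, 4, 5, -4), (3, 2, 0, -2), (2, 1, 0, 1), (1, -1, 0, 1)], 0, 0, 0, 0), 4194304),
  ((30, false, [(15, 7, 140, -128), (10, -4, 5, -4), (6, -2, 0, -2), (5, 4, 5, 4), (3, 2, 0, 2), (2, 1, 0, 1), (1, -1, 0, -1)], 0, 0, 0, 0), 4194304)]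

/-- all tables -/
def TT : List (List (Row × ℕ)) := [T0, T1, T2, T3, T4, T5, T6, T7, T8, T9, T10, T11, T12, T13, T14, T15, T16, T17, T18, T19, T20, T21, T22, T23, T24, T25, T26, T27, T28, T29, T30, T31, T32, T33, T34, T35, T36, T37, T38, T39, T40, T41, T42, T43, T44, T45, T46, T47, T48, T49, T50, T51, T52, T53, T54, T55]

end Cfsg.Agent.TAB.B.C2
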