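import Cfsg.Agent.TAB.B.C2.Chk
import Cfsg.Agent.TAB.B.C2.Tab

/-!
# Runs, part 1 (helper48)
-/

set_option autoImplicit false

namespace Cfsg.Agent.TAB.B.C2

open Cfsg.Agent.H633.Ore.Co2

/-- the class 1 -/
def c1 : Cs := ⟨C0.w1, 2, 0, 52, [4, 8345, 90, 4099, 408, 20582, 801, 2207, 1872, 49536, 69607, 185851, 284659, 564681, 1101759, 2146912], [0, 0, 1, 0, 0, 0, 4, 0, 16, 80, 324, 129, 8, 2, 45, 573, 1408, 2888, 4389, 9188, 17300, 33348], [0, 0, 0, 0, 0, 0, 0, 0, 0, 0, 0, 0, 0, 0, 0, 0, 163, 178, 10, 18, 34, 2],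
   [⟨1, [4, 8345, 90, 4099, 408, 20582, 801, 2207, 1872, 49536, 69607, 185851, 284659, 564681, 1101759, 2146912], [0, 0, 1, 0, 0, 0, 4, 0, 16, 80, 324, 129, 8, 2, 45, 573, 1408, 2888, 4389, 9188, 17300, 33348], [0, 0, 0, 0, 0, 0, 0, 0, 0, 0, 0, 0, 0, 0, 0, 0, 163, 178, 10, 18, 34, 2], 5, 0, 0, 0, -9⟩,
    ⟨2, [2048, 1, 4096, 2, 8192, 4, 16384, 8, 32768, 16, 65536, 32, 131072, 64, 262144, 128, 524288, 256, 1048576, 512, 2097152, 1024], [2, 8, 32, 128, 512, 2048, 8192, 32768, 131072, 524288, 2097152, 1, 4, 16, 64, 256, 1024, 4096, 16384, 65536, 262144, 1048576], [0, 0, 0, 0, 0, 0, 0, 0, 0, 0, 0, 0, 0, 0, 0, 0, 0, 0, 0, 0, 0, 0], 11, 1, 0, 2, 23⟩],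
   [18090198441706748, 18090748398830844, 18090748130460924, 18098993997989116, 18098995071468796, 310830771559057660, 310826922932668668, 603560898443380988, 603555951245117692, 310901138156275964, 382958736488122620, 455016330526050556]⟩

theorem ok1 : ClsOK (wd C0.w1) T1 := clsB_spec (c := c1) (by decide +kernel)

end Cfsg.Agent.TAB.B.C2
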