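import Cfsg.Agent.TAB.B.C2.Chk
import Cfsg.Agent.TAB.B.C2.Tab

/-!
# Runs, part 2 (helper48)
-/

set_option autoImplicit false

namespace Cfsg.Agent.TAB.B.C2

open Cfsg.Agent.H633.Ore.Co2

/-- the class 3 -/
def c3 : Cs := ⟨C0.w3, 2, 0, 52, [2, 4129, 128, 262428, 820, 8620, 1104, 2938, 16821, 73859, 172900, 532993, 1057469, 2138997], [0, 1, 0, 0, 0, 0, 0, 4, 0, 16, 64, 145, 2, 36, 260, 0, 545, 1076, 8, 2100, 4144, 8244], [0, 0, 0, 0, 0, 0, 0, 0, 0, 0, 16, 328, 0, 0, 5, 0, 316, 33124, 0, 9, 40, 33125],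
   [⟨1, [2, 4129, 128, 262428, 820, 8620, 1104, 2938, 16821, 73859, 172900, 532993, 1057469, 2138997], [0, 1, 0, 0, 0, 0, 0, 4, 0, 16, 64, 145, 2, 36, 260, 0, 545, 1076, 8, 2100, 4144, 8244], [0, 0, 0, 0, 0, 0, 0, 0, 0, 0, 16, 328, 0, 0, 5, 0, 316, 33124, 0, 9, 40, 33125], 3, 0, 0, 0, 7⟩,
    ⟨2, [2048, 1, 4096, 2, 8192, 4, 16384, 8, 32768, 16, 65536, 32, 131072, 64, 262144, 128, 524288, 256, 1048576, 512, 2097152, 1024], [2, 8, 32, 128, 512, 2048, 8192, 32768, 131072, 524288, 2097152, 1, 4, 16, 64, 256, 1024, 4096, 16384, 65536, 262144, 1048576], [0, 0, 0, 0, 0, 0, 0, 0, 0, 0, 0, 0, 0, 0, 0, 0, 0, 0, 0, 0, 0, 0], 11, 1, 0, 2, 23⟩],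
   [18047866102908156, 18047316279968892, 18050064857662716, 18049515571725436, 18046216902591740, 18048415657346300, 18052814240859388, 310788988774697212, 603516367215511804, 18061609259877628, 382872972165695740, 454930566203623676]⟩

theorem ok3 : ClsOK (wd C0.w3) T3 := clsB_spec (c := c3) (by decide +kernel)

/-- the class 2 -/
def c2 : Cs := ⟨C0.w2, 2, 0, 52, [323, 10913, 31, 6254, 26575, 41514, 66766, 143307, 263979, 535657, 1049988, 2099176], [0, 0, 0, 0, 4, 0, 0, 0, 1, 0, 0, 0, 8, 2, 19, 34, 64, 131, 257, 514, 1025, 2049], [0, 0, 0, 0, 1772, 0, 0, 0, 0, 0, 0, 0, 1229, 0, 579, 3658, 2571, 1666, 2213, 3151, 3308, 3717],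
   [⟨1, [323, 10913, 31, 6254, 26575, 41514, 66766, 143307, 263979, 535657, 1049988, 2099176], [0, 0, 0, 0, 4, 0, 0, 0, 1, 0, 0, 0, 8, 2, 19, 34, 64, 131, 257, 514, 1025, 2049], [0, 0, 0, 0, 1772, 0, 0, 0, 0, 0, 0, 0, 1229, 0, 579, 3658, 2571, 1666, 2213, 3151, 3308, 3717], 1, 0, 0, 0, -1⟩,
    ⟨2, [2048, 1, 4096, 2, 8192, 4, 16384, 8, 32768, 16, 65536, 32, 131072, 64, 262144, 128, 524288, 256, 1048576, 512, 2097152, 1024], [2, 8, 32, 128, 512, 2048, 8192, 32768, 131072, 524288, 2097152, 1, 4, 16, 64, 256, 1024, 4096, 16384, 65536, 262144, 1048576], [0, 0, 0, 0, 0, 0, 0, 0, 0, 0, 0, 0, 0, 0, 0, 0, 0, 0, 0, 0, 0, 0], 11, 1, 0, 2, 23⟩],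
   [36036425317196940, 18021477018338428, 18022026841277564, 36036425250104460, 36036425384289420, 18022576664216828, 18023126218654972, 18023675907409148, 18022026975462652, 18023676175779068, 18022026707092732, 18024775418971388, 310763699336005884, 18029723288552700, 603492726708766972, 310758751466424572, 90087317863220476, 162144911901148412]⟩

theorem ok2 : ClsOK (wd C0.w2) T2 := clsB_spec (c := c2) (by decide +kernel)

end Cfsg.Agent.TAB.B.C2
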