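import Cfsg.Agent.TAB.C2B.Pau
import Cfsg.Agent.H633.Ore.Lin
import Cfsg.Agent.Monster.PauliBits

/-!
# Automorphisms of `2^(1+22)` on codes (helper48)

`Sn α x s` : `α x = ± x`; `Ind α L` : the matrix on the codes; `Bs` : a basis of the fixed space; `gauss` : the Gauss sum.
-/

set_option autoImplicit false

namespace Cfsg.Agent.TAB.B.C2

open Cfsg.Agent.Monster.PauliBasic Cfsg.Agent.Monster.PauliClif Cfsg.Agent.Monster.PauliRep
open Cfsg.Agent.Monster.PauliBits (bit bit_xor bit_and bit_shiftRight bit_zero bit_eq_zero_of_lt bit_one dec enc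
  bit_eq_one_iff par32 bit_par32 sum_range_32 vec idx vec_idx idx_lt)
open Cfsg.Agent.H633.Ore (linL linL_nil linL_cons linL_zero linL_xor linL_map linL_lt idL linL_idL force force_eq)
open Cfsg.Agent.H155.TC.Pau (W tr)
open Cfsg.Agent.TAB.C2B (Cl ch mkP)
open Finset Matrix

/-! ### bits -/

theorem bit_inj {a b k l : ℕ} (h : bit a k = bit b l) : a.testBit k = b.testBit l := by
  unfold bit at h
  cases ha : a.testBit k <;> cases hb : b.testBit l <;> rw [ha, hb] at h <;> first | rfl | exact absurd h (by decide)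

theorem eq_of_bit {a b m : ℕ} (ha : a < 2 ^ m) (hb : b < 2 ^ m) (h : ∀ k < m, bit a k = bit b k) : a = b := by
  apply Nat.eq_of_testBit_eq
  intro i
  rcases Nat.lt_or_ge i m with hi | hi
  · exact bit_inj (h i hi)
  · rw [Nat.testBit_eq_false_of_lt (lt_of_lt_of_le ha (Nat.pow_le_pow_right (by norm_num) hi)),
      Nat.testBit_eq_false_of_lt (lt_of_lt_of_le hb (Nat.pow_le_pow_right (by norm_num) hi))]

theorem bit_ge {a m k : ℕ} (ha : a < 2 ^ m) (h : m ≤ k) : bit a k = 0 :=
  bit_eq_zero_of_lt (lt_of_lt_of_le ha (Nat.pow_le_pow_right (by norm_num) h))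

theorem bit_and_one (v c i : ℕ) : bit ((v &&& 1) * c) i = bit v 0 * bit c i := by
  rw [Nat.and_one_is_mod]
  unfold bit
  rw [Nat.testBit_zero]
  rcases Nat.mod_two_eq_zero_or_one v with h | h <;> rw [h] <;> simp

theorem bit_linL : ∀ (L : List ℕ) (v i : ℕ),
    bit (linL L v) i = ∑ k ∈ range L.length, bit v k * bit (L.getD k 0) i
  | [], v, i => by simp [linL_nil]
  | c :: L, v, i => by
    rw [linL_cons, bit_xor, bit_linL L, List.length_cons, sum_range_succ', add_comm, bit_and_one]
    congr 1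
    exact sum_congr rfl fun k _ => by rw [bit_shiftRight, add_comm 1 k, List.getD_cons_succ]

theorem bit_two_pow (j k : ℕ) : bit (2 ^ j) k = if j = k then 1 else 0 := by
  unfold bit
  rw [Nat.testBit_two_pow]
  simp

theorem linL_two_pow (L : List ℕ) (k : ℕ) : linL L (2 ^ k) = L.getD k 0 := by
  apply Nat.eq_of_testBit_eq
  intro i
  apply bit_inj
  rw [bit_linL]
  rcases Nat.lt_or_ge k L.length with h | h
  · rw [sum_eq_single k (fun j _ hj => by rw [bit_two_pow, if_neg (Ne.symm hj), zero_mul])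
      (fun h' => absurd (mem_range.2 h) h'), bit_two_pow, if_pos rfl, one_mul]
  · rw [List.getD_eq_default _ _ h, bit_zero]
    exact sum_eq_zero fun j hj => by rw [bit_two_pow, if_neg (by have := mem_range.1 hj; omega), zero_mul]

theorem linL_even (x : ℕ) (B : List ℕ) (u : ℕ) : linL (x :: B) (2 * u) = linL B u := by
  rw [linL_cons, Nat.and_one_is_mod, Nat.mul_mod_right, Nat.zero_mul, Nat.zero_xor, Nat.shiftRight_eq_div_pow, pow_one,
    Nat.mul_div_cancel_left _ (by norm_num)]

theorem linL_odd (x : ℕ) (B : List ℕ) (u : ℕ) : linL (x :: B) (2 * u + 1) = x ^^^ linL B u := by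
  rw [linL_cons, Nat.and_one_is_mod, show (2 * u + 1) % 2 = 1 by omega, Nat.one_mul, Nat.shiftRight_eq_div_pow, pow_one,
    show (2 * u + 1) / 2 = u by omega]

theorem linL_zip : ∀ (A B : List ℕ), A.length = B.length → ∀ v, linL (List.zipWith Nat.xor A B) v = linL A v ^^^ linL B v
  | [], [], _, v => by simp [linL_nil]
  | a :: A, b :: B, h, v => by
    rw [List.zipWith_cons_cons, linL_cons, linL_cons, linL_cons, linL_zip A B (by simpa using h)]
    have h1 : (v &&& 1) * Nat.xor a b = ((v &&& 1) * a) ^^^ ((v &&& 1) * b) := by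
      rcases H633.Ore.and_one_cases v with h | h <;> rw [h] <;> simp
    rw [h1]
    simp only [Nat.xor_assoc, Nat.xor_left_comm]
  | [], _ :: _, h, _ => by simp at h
  | _ :: _, [], h, _ => by simp at h

/-- the number with the bits `f a`, `a` in the list -/
noncomputable def colf (f : ℕ → ℕ) (M : List ℕ) : ℕ :=
  List.rec 0 (fun a _ ih => Nat.add (Nat.land (f a) 1) (Nat.mul 2 ih)) M

theorem colf_cons (f : ℕ → ℕ) (a : ℕ) (M : List ℕ) : colf f (a :: M) = (f a &&& 1) + 2 * colf f M := rfl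

theorem colf_lt (f : ℕ → ℕ) : ∀ M : List ℕ, colf f M < 2 ^ M.length
  | [] => Nat.one_pos
  | a :: M => by
    have h := colf_lt f M
    rw [colf_cons, Nat.and_one_is_mod, List.length_cons, pow_succ]
    omega

theorem bit_colf (f : ℕ → ℕ) : ∀ (M : List ℕ) (k : ℕ), k < M.length → bit (colf f M) k = bit (f (M.getD k 0)) 0
  | [], _, h => by simp at h
  | a :: M, 0, _ => by
    unfold bit
    rw [colf_cons, Nat.testBit_zero, Nat.testBit_zero, Nat.and_one_is_mod, List.getD_cons_zero,
      show (f a % 2 + 2 * colf f M) % 2 = f a % 2 by omega]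
  | a :: M, k + 1, h => by
    rw [List.getD_cons_succ, ← bit_colf f M k (by simpa using h)]
    unfold bit
    rw [colf_cons, Nat.testBit_succ, Nat.and_one_is_mod, show (f a % 2 + 2 * colf f M) / 2 = colf f M by omega]

/-- the column of a matrix -/
noncomputable def col (M : List ℕ) (b : ℕ) : ℕ := colf (fun a => Nat.shiftRight a b) M

theorem bit_col (M : List ℕ) (b k : ℕ) : bit (col M b) k = bit (M.getD k 0) b := by
  rcases Nat.lt_or_ge k M.length with h | h
  · unfold col
    rw [bit_colf _ _ _ h]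
    exact bit_shiftRight _ _ _
  · rw [List.getD_eq_default _ _ h, bit_zero]
    exact bit_ge (colf_lt _ _) h

/-- scalar product -/
def dt (a b : ℕ) : ZMod 2 := ∑ k ∈ range 22, bit a k * bit b k

theorem dt_comm (a b : ℕ) : dt a b = dt b a := sum_congr rfl fun _ _ => mul_comm _ _

theorem dt_of_lt {m e : ℕ} (hm : m ≤ 22) (he : e < 2 ^ m) (u : ℕ) : dt e u = ∑ k ∈ range m, bit e k * bit u k := by
  unfold dt
  rw [← sum_subset (range_subset_range.2 hm)]
  intro k _ hk
  rw [bit_ge he (by simpa using hk), zero_mul]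

theorem bit_linL_trn {n : ℕ} (hn : n ≤ 22) (M : List ℕ) {e : ℕ} (he : e < 2 ^ n) (k : ℕ) :
    bit (linL ((List.range n).map (col M)) e) k = dt e (M.getD k 0) := by
  rw [bit_linL, dt_of_lt hn he, List.length_map, List.length_range]
  refine sum_congr rfl fun j hj => ?_
  rw [List.getD_eq_getElem _ _ (by simpa using hj), List.getElem_map, List.getElem_range, bit_col]

/-- the table of the parities -/
def PT : ℕ := 0x96696996699696696996966996696996699696699669699696696996699696696996966996696996966969966996966996696996699696696996966996696996699696699669699696696996699696699669699669969669699696699669699696696996699696696996966996696996699696699669699696696996699696696996966996696996966969966996966996696996699696696996966996696996966969966996966969969669966969966996966996696996966969966996966996696996699696696996966996696996699696699669699696696996699696696996966996696996966969966996966996696996699696696996966996696996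

/-- parity of the low eleven bits -/
noncomputable def pa (x : ℕ) : ℕ := Nat.land (Nat.shiftRight PT (Nat.land x 2047)) 1

theorem PT_ok : (List.range 2048).all (fun y => Nat.beq (pa y) (par32 y)) = true := by decide +kernel

theorem pa_lt (x : ℕ) : pa x < 2 := by
  show (PT >>> _) &&& 1 < 2
  rw [Nat.and_one_is_mod]
  omega

theorem bit_pa (x : ℕ) : bit (pa x) 0 = ∑ k ∈ range 11, bit x k := by
  have h1 : x &&& 2047 = x % 2 ^ 11 := Nat.and_two_pow_sub_one_eq_mod x 11
  have h2 : x % 2 ^ 11 < 2 ^ 11 := Nat.mod_lt _ (by norm_num)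
  have h3 := Nat.eq_of_beq_eq_true (List.all_eq_true.1 PT_ok _ (List.mem_range.2 h2))
  have h4 : pa (x % 2 ^ 11) = pa x := by
    show (PT >>> ((x % 2 ^ 11) &&& 2047)) &&& 1 = (PT >>> (x &&& 2047)) &&& 1
    rw [h1, show (x % 2 ^ 11) &&& 2047 = x % 2 ^ 11 % 2 ^ 11 from Nat.and_two_pow_sub_one_eq_mod _ 11, Nat.mod_mod]
  rw [← h4, h3, bit_par32, if_pos rfl, sum_range_32 (n := 11) (by norm_num) h2]
  refine sum_congr rfl fun k hk => ?_
  unfold bit
  rw [Nat.testBit_mod_two_pow, decide_eq_true (mem_range.1 hk), Bool.true_and]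

/-! ### signs -/

section

variable {n : ℕ}

/-- the central elements -/
def ze (s : ZMod 2) : Pauli n := ⟨s, 0, 0⟩

theorem ze_mul (s : ZMod 2) (x : Pauli n) : ze s * x = ⟨s + x.s, x.a, x.b⟩ := by
  ext i <;> simp [ze]

theorem mul_ze (s : ZMod 2) (x : Pauli n) : x * ze s = ze s * x := by
  ext i <;> simp [ze, add_comm]

theorem ze_ze (s t : ZMod 2) : (ze s : Pauli n) * ze t = ze (s + t) := by rw [ze_mul]; rfl

theorem aut_ze (α : Pauli n ≃* Pauli n) (s : ZMod 2) : α (ze s) = ze s := by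
  rcases zmod2_cases s with rfl | rfl
  · exact map_one α
  · exact aut_z α

theorem eq_ze {x y : Pauli n} (h : ab x = ab y) : x = ze (x.s + y.s) * y := by
  rw [ze_mul]
  refine Pauli.ext ?_ (congrArg Prod.fst h) (congrArg Prod.snd h)
  show x.s = x.s + y.s + y.s
  rw [add_assoc, zmod2_add_self, add_zero]

theorem ab_ze (s : ZMod 2) (x : Pauli n) : ab (ze s * x) = ab x := by rw [ze_mul]; rfl

theorem ab_aut (α : Pauli n ≃* Pauli n) {x y : Pauli n} (h : ab x = ab y) : ab (α x) = ab (α y) := by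
  rw [eq_ze h, map_mul, aut_ze, ab_ze]

theorem form_ab {x y x' y' : Pauli n} (h : ab x = ab x') (h' : ab y = ab y') : Pauli.form x y = Pauli.form x' y' := by
  have h1 : x.a = x'.a := congrArg Prod.fst h
  have h2 : x.b = x'.b := congrArg Prod.snd h
  have h3 : y.a = y'.a := congrArg Prod.fst h'
  have h4 : y.b = y'.b := congrArg Prod.snd h'
  simp only [Pauli.form, h1, h2, h3, h4]

/-- `α x = ± x` -/
def Sn (α : Pauli n ≃* Pauli n) (x : Pauli n) (s : ZMod 2) : Prop := α x = ze s * x

/-- the sign -/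
def sv (α : Pauli n ≃* Pauli n) (x : Pauli n) : ZMod 2 := (α x).s + x.s

variable {α : Pauli n ≃* Pauli n} {x y : Pauli n} {s t : ZMod 2}

theorem sn_sv (h : ab (α x) = ab x) : Sn α x (sv α x) := eq_ze h

theorem Sn.fix (h : Sn α x s) : ab (α x) = ab x := by rw [h, ab_ze]

theorem Sn.sv_eq (h : Sn α x s) : sv α x = s := by
  unfold sv
  rw [h, ze_mul]
  show s + x.s + x.s = s
  rw [add_assoc, zmod2_add_self, add_zero]

theorem Sn.congr (h : Sn α x s) (hxy : ab y = ab x) : Sn α y s := by
  unfold Sn at *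
  rw [eq_ze hxy, map_mul, aut_ze, h, ← mul_assoc, ← mul_assoc, ze_ze, ze_ze, add_comm]

theorem Sn.mul (h : Sn α x s) (h' : Sn α y t) : Sn α (x * y) (s + t) := by
  unfold Sn at *
  rw [map_mul, h, h', mul_assoc, ← mul_assoc x, mul_ze, ← mul_assoc, ← mul_assoc, ze_ze, mul_assoc]

theorem Sn.one : Sn α 1 0 := by
  unfold Sn
  rw [map_one, mul_one]
  rfl

/-- the product over the orbit -/
def pr (α : Pauli n ≃* Pauli n) (x : Pauli n) : ℕ → Pauli n
  | 0 => 1
  | d + 1 => pr α x d * (α ^ d) x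

theorem pr_realised : True := by have := @pr.eq_def; trivial

theorem pr_succ' (α : Pauli n ≃* Pauli n) (x : Pauli n) : ∀ d, pr α x (d + 1) = x * α (pr α x d)
  | 0 => by simp [pr]
  | d + 1 => by
    show pr α x (d + 1) * (α ^ (d + 1)) x = x * α (pr α x d * (α ^ d) x)
    rw [pr_succ' α x d, map_mul, mul_assoc, pow_succ']
    rfl

theorem pr_fix {d : ℕ} (h : ab ((α ^ d) x) = ab x) : ab (α (pr α x d)) = ab (pr α x d) := by
  have h1 := congrArg ab (pr_succ' α x d)
  rw [pr, ab_mul, ab_mul, h, add_comm] at h1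
  exact (add_left_cancel h1).symm

theorem Sn.pow {d : ℕ} (h : Sn α (pr α x d) s) : Sn (α ^ d) x (s + Pauli.form x (pr α x d)) := by
  have h1 := pr_succ' α x d
  rw [pr, h, ← mul_assoc, mul_ze, mul_assoc, Pauli.mul_eq_mul_mul_form x] at h1
  change _ = ze s * (ze _ * _) at h1
  rw [← mul_assoc, ze_ze, ← mul_assoc, ← mul_ze, mul_assoc] at h1
  exact mul_left_cancel h1

theorem ch_eq (α : Pauli n ≃* Pauli n) (x : Pauli n) [Decidable (ab (α x) = ab x)] :
    ch x (α x) = if ab (α x) = ab x then sg ℚ (sv α x) else 0 := by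
  unfold ch
  by_cases h : ab (α x) = ab x
  · rw [if_pos h]
    have h1 : α x = ze (sv α x) * x := sn_sv h
    rcases zmod2_cases (sv α x) with h2 | h2 <;> rw [h2] at h1 ⊢
    · rw [if_pos (by rw [h1]; exact (one_mul x).symm), sg_zero]
    · have h3 : x = Pauli.z n * α x := by
        rw [h1, ← mul_assoc]
        exact (one_mul x).symm.trans (congrArg (· * x) Pauli.z_sq.symm)
      rw [if_neg, if_pos h3, sg_one]
      intro h4
      rw [← h4] at h3
      exact Pauli.z_ne_one (mul_right_cancel (h3.symm.trans (one_mul x).symm))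
  · rw [if_neg h, if_neg (fun h1 => h (by rw [← h1])), if_neg]
    intro h1
    exact h ((ab_eq_iff _ _).2 (Or.inr h1)).symm

theorem sum_param (α : Pauli n ≃* Pauli n) (γ : B n × B n → ℚ) (m : ℕ) (φ : ℕ → Pauli n)
    (h1 : ∀ u, ab (α (φ u)) = ab (φ u)) (h2 : ∀ u < m, ∀ v < m, ab (φ u) = ab (φ v) → u = v)
    (h3 : ∀ x, ab (α x) = ab x → ∃ u < m, ab (φ u) = ab x) :
    ∑ v : B n × B n, ch (mkP v) (α (mkP v)) * γ v = ∑ u ∈ range m, sg ℚ (sv α (φ u)) * γ (ab (φ u)) := by
  classical
  have h4 : ∑ v : B n × B n, ch (mkP v) (α (mkP v)) * γ v =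
      ∑ v ∈ univ.filter (fun v : B n × B n => ab (α (mkP v)) = ab (mkP v)), sg ℚ (sv α (mkP v)) * γ v := by
    rw [sum_filter]
    refine sum_congr rfl fun v _ => ?_
    rw [ch_eq]
    split_ifs <;> simp
  rw [h4]
  symm
  refine sum_bij (fun u _ => ab (φ u)) (fun u _ => mem_filter.2 ⟨mem_univ _, ?_⟩)
    (fun u hu v hv huv => h2 u (mem_range.1 hu) v (mem_range.1 hv) huv) (fun v hv => ?_) fun u _ => ?_
  · exact (ab_aut α (x := mkP (ab (φ u))) (y := φ u) rfl).trans (h1 u)
  · obtain ⟨u, hu, h⟩ := h3 _ (mem_filter.1 hv).2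
    exact ⟨u, mem_range.2 hu, h⟩
  · rw [((sn_sv (h1 u)).congr (y := mkP (ab (φ u))) rfl).sv_eq]

end

/-! ### codes -/

/-- the element of a code -/
abbrev P (c : ℕ) : Pauli 11 := dec 11 c

theorem ab_xor (x y : ℕ) : ab (P (x ^^^ y)) = ab (P x * P y) :=
  Prod.ext (funext fun _ => bit_xor _ _ _) (funext fun _ => bit_xor _ _ _)

theorem ab_zero : ab (P 0) = ab (1 : Pauli 11) :=
  Prod.ext (funext fun _ => bit_zero _) (funext fun _ => bit_zero _)

theorem ab_iff {x y : ℕ} : ab (P x) = ab (P y) ↔ ∀ k < 22, bit x k = bit y k := by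
  constructor
  · intro h k hk
    rcases Nat.lt_or_ge k 11 with h1 | h1
    · exact congrFun (congrArg Prod.snd h) ⟨k, h1⟩
    · have h2 : bit x (11 + (k - 11)) = bit y (11 + (k - 11)) := congrFun (congrArg Prod.fst h) ⟨k - 11, by omega⟩
      rwa [show 11 + (k - 11) = k by omega] at h2
  · intro h
    exact Prod.ext (funext fun i => h _ (by omega)) (funext fun i => h _ (by omega))

theorem ab_inj {x y : ℕ} (hx : x < 2 ^ 22) (hy : y < 2 ^ 22) (h : ab (P x) = ab (P y)) : x = y :=
  eq_of_bit hx hy (ab_iff.1 h)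

theorem exists_code (x : Pauli 11) : ∃ c < 2 ^ 22, ab (P c) = ab x := by
  refine ⟨2 ^ 11 * idx x.a + idx x.b, ?_, ?_⟩
  · have h1 := idx_lt x.a
    have h2 := idx_lt x.b
    omega
  · refine Prod.ext (funext fun i => ?_) (funext fun i => ?_)
    · show bit _ (11 + i) = x.a i
      rw [← Monster.PauliBits.bit_idx x.a i]
      unfold bit
      rw [Nat.testBit_two_pow_mul_add _ (idx_lt _), if_neg (show ¬ 11 + (i : ℕ) < 11 by omega), Nat.add_sub_cancel_left]
    · show bit _ i = x.b i
      rw [← Monster.PauliBits.bit_idx x.b i]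
      unfold bit
      rw [Nat.testBit_two_pow_mul_add _ (idx_lt _), if_pos i.2]

theorem linL_congr {L : List ℕ} (hL : L.length ≤ 22) {x y : ℕ} (h : ab (P x) = ab (P y)) : linL L x = linL L y := by
  apply Nat.eq_of_testBit_eq
  intro i
  apply bit_inj
  rw [bit_linL, bit_linL]
  exact sum_congr rfl fun k hk => by rw [ab_iff.1 h k (by have := mem_range.1 hk; omega)]

/-- the symplectic form on codes -/
noncomputable def fm (x y : ℕ) : ℕ :=
  pa (Nat.xor (Nat.land x (Nat.shiftRight y 11)) (Nat.land y (Nat.shiftRight x 11)))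

/-- the quadratic form on codes -/
noncomputable def qf (x : ℕ) : ℕ := pa (Nat.land x (Nat.shiftRight x 11))

theorem dot_eq (x y : ℕ) : (P x).b ⬝ᵥ (P y).a = ∑ k ∈ range 11, bit (x &&& (y >>> 11)) k := by
  unfold dotProduct
  rw [sum_range]
  exact sum_congr rfl fun k _ => by rw [bit_and, bit_shiftRight]; rfl

theorem bit_fm (x y : ℕ) : bit (fm x y) 0 = Pauli.form (P x) (P y) := by
  unfold fm Pauli.form
  rw [bit_pa, dot_eq, dot_eq, ← sum_add_distrib]
  exact sum_congr rfl fun k _ => bit_xor _ _ _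

theorem bit_qf (x : ℕ) : bit (qf x) 0 = (P x).b ⬝ᵥ (P x).a := by
  unfold qf
  rw [bit_pa, dot_eq]
  rfl

/-- `α` acts on the codes by the matrix `L` -/
def Ind (α : Pauli 11 ≃* Pauli 11) (L : List ℕ) : Prop := ∀ c, ab (α (P c)) = ab (P (linL L c))

variable {α β : Pauli 11 ≃* Pauli 11}

theorem ab_lin : ∀ (X Y : List ℕ), X.length = Y.length →
    (∀ k < X.length, ab (α (P (X.getD k 0))) = ab (P (Y.getD k 0))) → ∀ c, ab (α (P (linL X c))) = ab (P (linL Y c))
  | [], [], _, _, c => by rw [linL_nil, ab_aut α ab_zero, map_one, ab_zero]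
  | x :: X, y :: Y, hl, h, c => by
    have h1 := ab_lin X Y (by simpa using hl) (fun k hk => h (k + 1) (by simpa using hk)) (c >>> 1)
    have h0 : ab (α (P x)) = ab (P y) := h 0 (by simp)
    rw [linL_cons, linL_cons, ab_aut α (ab_xor _ _), map_mul, ab_xor, ab_mul, ab_mul, h1]
    congr 1
    rcases H633.Ore.and_one_cases c with h2 | h2 <;> rw [h2]
    · rw [Nat.zero_mul, Nat.zero_mul, ab_aut α ab_zero, map_one, ab_zero]
    · rw [Nat.one_mul, Nat.one_mul, h0]
  | [], _ :: _, h, _, _ => by simp at h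
  | _ :: _, [], h, _, _ => by simp at h

theorem idL_length : (idL 22).length = 22 := by simp [idL]

theorem idL_getD {k : ℕ} (hk : k < 22) : (idL 22).getD k 0 = 2 ^ k := by
  rw [List.getD_eq_getElem _ _ (by rw [idL_length]; exact hk)]
  simp [idL]

theorem ab_idL (c : ℕ) : ab (P (linL (idL 22) c)) = ab (P c) := by
  obtain ⟨c', h1, h2⟩ := exists_code (P c)
  rw [← linL_congr idL_length.le h2, linL_idL h1, h2]

theorem ind_of {L : List ℕ} (hL : L.length = 22) (h : ∀ k < 22, ab (α (P (2 ^ k))) = ab (P (L.getD k 0))) : Ind α L := by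
  intro c
  rw [← ab_lin (α := α) (idL 22) L (by rw [idL_length, hL]) (fun k hk => by
    rw [idL_length] at hk
    rw [idL_getD hk, h k hk]) c]
  exact ab_aut α (ab_idL c).symm

theorem Ind.one : Ind 1 (idL 22) := fun c => (ab_idL c).symm

theorem Ind.mul {A B : List ℕ} (hA : Ind α A) (hB : Ind β B) : Ind (α * β) (B.map (linL A)) := by
  intro c
  rw [linL_map, ← hA]
  exact ab_aut α (hB c)

/-- the matrix of the product over the orbit -/
def IndN (α : Pauli 11 ≃* Pauli 11) (d : ℕ) (N : List ℕ) : Prop := ∀ c, ab (pr α (P c) d) = ab (P (linL N c))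

theorem IndN.succ {d : ℕ} {N L : List ℕ} (hN : IndN α d N) (hL : Ind (α ^ d) L) (hl : N.length = L.length) :
    IndN α (d + 1) (List.zipWith Nat.xor N L) := by
  intro c
  rw [linL_zip _ _ hl, ab_xor, pr, ab_mul, ab_mul, hN, hL]

theorem IndN.one : IndN α 1 (idL 22) := by
  intro c
  rw [ab_idL]
  simp [pr]

/-! ### bases of the fixed space -/

/-- `B` is a basis of the fixed space, `U` gives the coordinates -/
structure Bs (α : Pauli 11 ≃* Pauli 11) (B U : List ℕ) : Prop where
  le : B.length ≤ 22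
  lenU : U.length = 22
  ltU : ∀ c, linL U c < 2 ^ B.length
  fix : ∀ u, ab (α (P (linL B u))) = ab (P (linL B u))
  span : ∀ c, ab (α (P c)) = ab (P c) → ab (P (linL B (linL U c))) = ab (P c)
  dual : ∀ u < 2 ^ B.length, linL U (linL B u) = u

/-- the signs on the basis -/
def Sg (α : Pauli 11 ≃* Pauli 11) (B : List ℕ) (e : ℕ) : Prop :=
  e < 2 ^ B.length ∧ ∀ k < B.length, Sn α (P (B.getD k 0)) (bit e k)

theorem sn_lin : ∀ (B : List ℕ) (s : ℕ → ZMod 2), (∀ k < B.length, Sn α (P (B.getD k 0)) (s k)) → ∀ u,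
    Sn α (P (linL B u)) (∑ k ∈ range B.length, s k * bit u k)
  | [], _, _, u => by
    rw [linL_nil, List.length_nil, sum_range_zero]
    exact Sn.one.congr ab_zero
  | x :: B, s, h, u => by
    have h1 := sn_lin B (fun k => s (k + 1)) (fun k hk => h (k + 1) (by simpa using hk)) (u >>> 1)
    have h0 : Sn α (P x) (s 0) := h 0 (by simp)
    have h2 : Sn α (P ((u &&& 1) * x)) (s 0 * bit u 0) := by
      unfold bit
      rw [Nat.testBit_zero, Nat.and_one_is_mod]
      rcases Nat.mod_two_eq_zero_or_one u with h3 | h3 <;> rw [h3]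
      · simpa using Sn.one.congr ab_zero
      · simpa using h0
    rw [linL_cons, List.length_cons, sum_range_succ', add_comm]
    have h3 := (h2.mul h1).congr (ab_xor _ _)
    simp only [bit_shiftRight, add_comm 1] at h3
    exact h3

/-- the quotient by the centre -/
abbrev VV : Type := Monster.PauliBasic.B 11 × Monster.PauliBasic.B 11

variable {B U : List ℕ} {e : ℕ}

theorem Bs.sn (hb : Bs α B U) (he : Sg α B e) (u : ℕ) : Sn α (P (linL B u)) (dt e u) := by
  rw [dt_of_lt hb.le he.1]
  exact sn_lin B _ he.2 u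

theorem Bs.sn_fix (hb : Bs α B U) (he : Sg α B e) {c : ℕ} (hc : ab (α (P c)) = ab (P c)) :
    Sn α (P c) (dt e (linL U c)) := (hb.sn he _).congr (hb.span c hc).symm

theorem Bs.sn_pow (hb : Bs α B U) (he : Sg α B e) {d : ℕ} {N : List ℕ} (hN : IndN α d N) {c : ℕ}
    (hc : ab ((α ^ d) (P c)) = ab (P c)) :
    Sn (α ^ d) (P c) (dt e (linL U (linL N c)) + bit (fm c (linL N c)) 0) := by
  have h1 : ab (α (P (linL N c))) = ab (P (linL N c)) := by
    rw [← hN, ← pr_fix hc]
    exact ab_aut α (hN c).symm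
  have h2 := ((hb.sn_fix he h1).congr (hN c)).pow
  rwa [form_ab rfl (hN c), ← bit_fm] at h2

theorem Bs.sum_eq (hb : Bs α B U) (γ : VV → ℚ) :
    ∑ v : VV, ch (mkP v) (α (mkP v)) * γ v =
      ∑ u ∈ range (2 ^ B.length), sg ℚ (sv α (P (linL B u))) * γ (ab (P (linL B u))) := by
  refine sum_param α γ _ (fun u => P (linL B u)) hb.fix (fun u hu v hv huv => ?_) fun x hx => ?_
  · rw [← hb.dual u hu, ← hb.dual v hv]
    exact linL_congr hb.lenU.le huv
  · obtain ⟨c, -, hc⟩ := exists_code x
    exact ⟨linL U c, hb.ltU c, by rw [hb.span c (by rw [ab_aut α hc, hx, hc]), hc]⟩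

end Cfsg.Agent.TAB.B.C2
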