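import Cfsg.Agent.TAB.B.C2.Head

/-!
# The matrices of the generators on the codes (helper48)
-/

set_option autoImplicit false

namespace Cfsg.Agent.TAB.B.C2

open Cfsg Cfsg.Agent.SporadicA Cfsg.Agent.SporadicA.GolayBase
open Cfsg.Agent.SporadicStructure.Co0Matrix (dotL sum_range_getD)
open Cfsg.Agent.SporadicStructure.Co2RankThree (toCo0 ofCo0 a0 toCo0_a0)
open Cfsg.Agent.H633.Ore (linL force force_eq nth nth_eq mapF mapF_eq idL)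
open Cfsg.Agent.H633.Ore.Co2 (tt wd)
open Cfsg.Agent.Leech.Co0Elts (sgn sgn_coe sgnMap_apply sgnMap_sgnMap)
open Cfsg.Agent.Monster.PauliBasic Cfsg.Agent.Monster.PauliClif
open Cfsg.Agent.Monster.VecSpace (Lane)
open Cfsg.Agent.Monster.VecEngine (val bt val_cons val_sgn)
open Cfsg.Agent.BabyM Cfsg.Agent.BabyM.Conc Cfsg.Agent.BabyM.KTab Cfsg.Agent.BabyM.ThetaInst
open Cfsg.Agent.BabyM.ThetaHom (π rel_π π_eq onto)
open Cfsg.Agent.BabyM.Co2GenStd (l₀)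
open Finset

/-- the lanes of a basis -/
def BL : List ℕ := [0, 1, 2, 3, 4, 8, 16, 17, 18, 20, 32, 33, 36, 48, 52, 80, 128, 208, 304, 448, 640, 2048]

/-- the unit vectors in this basis -/
def BI : List ℕ := [29747, 28333, 5945, 3736, 28260, 24905, 6939, 7116, 30958, 3476, 15, 105, 4151, 19679, 35425, 68929, 134388, 262412, 549447, 1048577, 2078710, 2097152]

/-- the vectors of the basis -/
def WL : List (List ℤ) := [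
  [0, 0, 2, 0, -2, -2, -2, 0, 0, 0, 2, -2, 0, 0, 0, 0, 0, 0, 0, 0, 0, 0, 0],
  [0, 0, 2, 0, -2, 2, 2, 0, 0, 0, -2, 2, 0, 0, 0, 0, 0, 0, 0, 0, 0, 0, 0],
  [0, 0, 2, 0, 2, 2, -2, 0, 0, 0, 2, -2, 0, 0, 0, 0, 0, 0, 0, 0, 0, 0, 0],
  [0, 0, 2, 0, 2, -2, 2, 0, 0, 0, -2, 2, 0, 0, 0, 0, 0, 0, 0, 0, 0, 0, 0],
  [0, 0, 2, 0, -2, -2, 2, 0, 0, 0, -2, -2, 0, 0, 0, 0, 0, 0, 0, 0, 0, 0, 0],
  [0, 0, 2, 0, -2, -2, -2, 0, 0, 0, -2, 2, 0, 0, 0, 0, 0, 0, 0, 0, 0, 0, 0],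
  [0, 2, 0, 2, 0, 0, -2, 0, -2, 0, -2, 0, 0, -2, 0, 0, 0, 0, 0, 0, 0, 0, 0],
  [0, 2, 0, 2, 0, 0, 2, 0, 2, 0, 2, 0, 0, 2, 0, 0, 0, 0, 0, 0, 0, 0, 0],
  [0, 2, 0, -2, 0, 0, 2, 0, -2, 0, -2, 0, 0, -2, 0, 0, 0, 0, 0, 0, 0, 0, 0],
  [0, 2, 0, 2, 0, 0, -2, 0, 2, 0, 2, 0, 0, -2, 0, 0, 0, 0, 0, 0, 0, 0, 0],
  [0, 0, 0, 2, 0, 0, 0, 0, 0, -2, 2, -2, -2, 0, -2, 0, 0, 0, 0, 0, 0, 0, 0],
  [0, 0, 0, 2, 0, 0, 0, 0, 0, -2, -2, 2, 2, 0, 2, 0, 0, 0, 0, 0, 0, 0, 0],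
  [0, 0, 0, 2, 0, 0, 0, 0, 0, -2, 2, 2, 2, 0, -2, 0, 0, 0, 0, 0, 0, 0, 0],
  [0, 2, 0, 0, 2, -2, 0, 2, 2, 0, 0, 0, 0, 0, 0, -2, 0, 0, 0, 0, 0, 0, 0],
  [0, 2, 0, 0, 2, -2, 0, -2, -2, 0, 0, 0, 0, 0, 0, -2, 0, 0, 0, 0, 0, 0, 0],
  [0, 0, 2, 0, 0, 0, 0, 2, 2, 0, 2, 0, 0, 0, -2, 0, -2, 0, 0, 0, 0, 0, 0],
  [0, 2, 0, 0, 2, 0, -2, 0, 0, 2, 0, 0, 2, 0, 0, 0, 0, -2, 0, 0, 0, 0, 0],
  [0, 2, 2, 0, 0, 0, 0, 0, 2, 0, 0, -2, 2, 0, 0, 0, 0, 0, -2, 0, 0, 0, 0],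
  [0, 0, 0, 0, 2, 0, 0, 2, 0, -2, 2, 0, 0, -2, 0, 0, 0, 0, 0, 2, 0, 0, 0],
  [0, 0, 0, 0, 0, 0, -2, -2, -2, -2, 0, -2, 0, 0, 0, 0, 0, 0, 0, 0, -2, 0, 0],
  [0, 0, 2, -2, -2, 0, 0, 0, 2, 2, 0, 0, 0, 0, 0, 0, 0, 0, 0, 0, 0, 2, 0],
  [-2, 1, 1, 1, 1, -1, -1, 1, -1, -1, 1, -1, 1, -1, -1, -1, -1, -1, -1, -1, -1, -1, -1]]

/-- the images -/
def JL (k : ℕ) : List ℕ := Nat.rec [234, 2762, 232, 2495, 51, 8, 704, 997, 213, 1185, 2188, 33, 2456, 2302, 2298, 2452, 313, 441, 2442, 2634, 2730, 1293] (fun k _ => Nat.rec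
  [1182, 94, 362, 204, 2079, 1175, 632, 845, 1102, 2711, 95, 358, 2575, 149, 927, 980, 788, 2427, 2435, 2632, 1065, 627] (fun _ _ =>
  [1282, 2922, 73, 2224, 67, 2839, 2838, 819, 77, 2648, 144, 247, 2505, 1137, 2926, 340, 2938, 386, 432, 2342, 159, 2410]) k) k

/-- the signs -/
def JS (k : ℕ) : List ℤ := Nat.rec [1, 1, 1, -1, -1, -1, -1, 1, -1, -1, -1, -1, -1, -1, -1, -1, -1, -1, -1, -1, 1, -1] (fun k _ => Nat.rec
  [1, -1, 1, -1, 1, 1, 1, -1, 1, -1, -1, -1, -1, 1, -1, 1, 1, 1, -1, 1, 1, 1] (fun _ _ =>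
  [1, -1, 1, -1, 1, 1, 1, 1, -1, 1, 1, -1, 1, 1, 1, 1, 1, 1, 1, 1, -1, 1]) k) k

/-- the matrices of the generators -/
def GM (k : ℕ) : List ℕ := Nat.rec [2097152, 2, 2327522, 8, 2827211, 3843065, 3252491, 128, 3244291, 2818195, 1812793, 3900528, 1749976, 328, 2343910, 3211267, 2171209, 107183, 1417546, 2859694, 106826, 1] (fun k _ => Nat.rec
  [1152, 3634059, 3110053, 1750865, 2441906, 1750124, 3503003, 1749069, 2975148, 2577454, 1749068, 422542, 1217929, 4006693, 4133395, 181736, 1681236, 2441968, 703059, 676150, 185581, 1666610] (fun _ _ =>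
  [2094005, 1502836, 2022302, 1883976, 1996875, 3149311, 1883904, 719251, 1503094, 784856, 67275, 2461112, 2990164, 605634, 3270449, 1916299, 597769, 3790598, 3485205, 2059901, 2784744, 2839549]) k) k

/-- the check of a generator -/
def GenOK (k : ℕ) : Prop := (JL k).length = 22 ∧ (GM k).length = 22 ∧ ∀ a < 22,
  chkG (RR k) (BL.getD a 0) ((JL k).getD a 0) ((JS k).getD a 0) (WL.getD a []) = true ∧
    linL (BL.map cd) (BI.getD a 0) = 2 ^ a ∧ linL ((JL k).map cd) (BI.getD a 0) = (GM k).getD a 0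

theorem genOK (k : ℕ) : GenOK k := by
  have h : GenOK 0 ∧ GenOK 1 ∧ GenOK 2 := by
    unfold GenOK
    decide +kernel
  match k with
  | 0 => exact h.1
  | 1 => exact h.2.1
  | _ + 2 => exact h.2.2

theorem indC_tt (k : ℕ) : IndC (tt k) (GM k) := by
  intro g α hg hα
  obtain ⟨h1, h2, h3⟩ := genOK k
  refine ind_of h2 fun a ha => ?_
  rw [← (h3 a ha).2.1, ← (h3 a ha).2.2]
  refine ab_lin _ _ (by rw [List.length_map, List.length_map, h1]; rfl) (fun c hc => ?_) _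
  have hc' : c < 22 := by rwa [List.length_map] at hc
  have h4 := chkG_spec (h3 c hc').1 hg hα
  rwa [List.getD_eq_getElem _ _ hc, List.getElem_map, List.getD_eq_getElem _ _ (by rw [List.length_map, h1]; exact hc'),
    List.getElem_map, ← List.getD_eq_getElem _ 0, ← List.getD_eq_getElem _ 0]

/-- the matrix of a word -/
noncomputable def wdL {β : Type} (w : List ℕ) : List ℕ → (List ℕ → β) → β :=
  List.rec (fun L k => k L) (fun a _ ih L k => mapF (linL L) (GM a) fun L' => ih L' k) w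

theorem wdL_spec {β : Type} : ∀ (w : List ℕ) (γ : Spor.Co2) (L : List ℕ) (k : List ℕ → β), IndC γ L →
    ∃ L', IndC (γ * wd w) L' ∧ wdL w L k = k L'
  | [], γ, L, k, h => ⟨L, by rwa [show wd [] = 1 from rfl, mul_one], rfl⟩
  | a :: w, γ, L, k, h => by
    obtain ⟨L', h1, h2⟩ := wdL_spec w _ _ k (h.mul (indC_tt a))
    refine ⟨L', by rwa [show wd (a :: w) = tt a * wd w from rfl, ← mul_assoc], ?_⟩
    show mapF (linL L) (GM a) (fun L' => wdL w L' k) = _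
    rw [mapF_eq, h2]

end Cfsg.Agent.TAB.B.C2
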