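import Cfsg.Agent.TAB.B.C2.Low
import Cfsg.Agent.TAB.B.C2.Tab

/-!
# The elements of `Q` (helper48)
-/

set_option autoImplicit false

namespace Cfsg.Agent.TAB.B.C2

open Cfsg
open Cfsg.Agent.H633.Ore (linL force force_eq mapF mapF_eq nth nth_eq)
open Cfsg.Agent.Monster.PauliBasic
open Cfsg.Agent.Monster.PauliBits (bit bit_and bit_shiftRight bit_eq_zero_of_lt)
open Cfsg.Agent.BabyM Cfsg.Agent.BabyM.Conc Cfsg.Agent.BabyM.KTab
open Finset Matrix

set_option maxHeartbeats 200000

/-- the array of the quadratic form -/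
noncomputable def qa (W j : ℕ) : ℕ :=
  Nat.rec 0 (fun j ih => force ih fun a => force (Nat.mul W (Nat.pow 2 (Nat.mul 2 j))) fun s =>
    Nat.add (Nat.add a (Nat.shiftLeft a s))
      (Nat.shiftLeft (Nat.add a (Nat.shiftLeft (Nat.sub (ones W (Nat.mul 2 j)) a) s)) (Nat.mul s 2))) j

theorem gq_top {e k j : ℕ} (he : e < 2 ^ k) (hj : 2 * j ≤ k) : gq j (2 ^ k + e) = gq j e :=
  sum_congr rfl fun i hi => by
    have := mem_range.1 hi
    rw [bit_top he, bit_top he, if_neg (by omega), if_neg (by omega)]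

theorem gq_succ (j e : ℕ) : gq (j + 1) e = gq j e + bit e (2 * j) * bit e (2 * j + 1) := sum_range_succ _ _

attribute [local irreducible] wh pk cn linL ph qpl ones PL0 gq

theorem qa_eq (W : ℕ) : ∀ j, qa W j = pk W (2 * j) fun v => (gq j v).val
  | 0 => by rw [pk_zero]; unfold gq; rfl
  | j + 1 => by
    show force (qa W j) (fun a => force (W * 2 ^ (2 * j)) fun s => Nat.add (Nat.add a (Nat.shiftLeft a s))
      (Nat.shiftLeft (Nat.add a (Nat.shiftLeft (ones W (2 * j) - a) s)) (s * 2))) = _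
    rw [force_eq, force_eq, shl_eq, shl_eq, shl_eq, qa_eq W j, ones_eq, show 2 * (j + 1) = 2 * j + 1 + 1 from rfl, pk_succ,
      pk_succ, pk_succ, mul_assoc, ← pow_succ]
    have h1 : ∀ p < 2 ^ (2 * j), 2 ^ (2 * j) + p < 2 ^ (2 * j + 1) := fun p hp => by rw [pow_succ]; omega
    have h2 : ∀ p < 2 ^ (2 * j), p < 2 ^ (2 * j + 1) := fun p hp => by rw [pow_succ]; omega
    refine congrArg₂ (· + ·) (congrArg₂ (· + ·) ?_ (congrArg (HMul.hMul _) ?_))
      (congrArg (HMul.hMul _) (congrArg₂ (· + ·) ?_ (congrArg (HMul.hMul _) (Nat.sub_eq_of_eq_add ?_))))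
    · exact pk_congr fun p hp => by rw [gq_succ, bit_eq_zero_of_lt hp, zero_mul, add_zero]
    · exact pk_congr fun p hp => by rw [gq_succ, bit_eq_zero_of_lt (h1 p hp), mul_zero, add_zero, gq_top hp le_rfl]
    · exact pk_congr fun p hp => by
        rw [gq_succ, bit_top (h2 p hp), if_neg (by omega), bit_eq_zero_of_lt hp, zero_mul, add_zero,
          gq_top (h2 p hp) (by omega)]
    · rw [pk_add]
      refine pk_congr fun p hp => ?_
      rw [gq_succ, bit_top (h1 p hp), bit_top (h1 p hp), if_neg (by omega), if_pos rfl, bit_top hp, if_pos rfl,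
        gq_top (h1 p hp) (by omega), gq_top hp le_rfl]
      exact (by decide : ∀ s : ZMod 2, 1 = (s + 1 * 1).val + s.val) _

/-- the basis -/
def BQ : List ℕ := [2048, 1, 4096, 2, 8192, 4, 16384, 8, 32768, 16, 65536, 32, 131072, 64, 262144, 128, 524288, 256, 1048576, 512, 2097152, 1024]

/-- the coordinates -/
def UQ : List ℕ := [2, 8, 32, 128, 512, 2048, 8192, 32768, 131072, 524288, 2097152, 1, 4, 16, 64, 256, 1024, 4096, 16384, 65536, 262144, 1048576]

theorem bs_BQ : Bs 1 BQ UQ :=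
  bsB_spec (L := I22) (K := List.replicate 22 0) (by decide +kernel) (by rw [I22_eq]; exact Ind.one)

theorem q_BQ (v : ℕ) : (P (linL BQ v)).b ⬝ᵥ (P (linL BQ v)).a = gq 11 v := by
  have h1 : ∀ k < 11, ∀ i < 22, bit (BQ.getD i 0) k = (if i = 2 * k + 1 then 1 else 0) ∧
      bit (BQ.getD i 0) (11 + k) = if i = 2 * k then 1 else 0 := by decide +kernel
  rw [dot_eq]
  unfold gq
  refine sum_congr rfl fun k hk => ?_
  have hk := mem_range.1 hk
  rw [bit_and, bit_shiftRight, bit_linL, bit_linL, show BQ.length = 22 from rfl,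
    sum_congr rfl fun i hi => by rw [(h1 k hk i (mem_range.1 hi)).1],
    sum_congr rfl (f := fun i => bit v i * bit (BQ.getD i 0) (11 + k)) fun i hi => by rw [(h1 k hk i (mem_range.1 hi)).2]]
  simp only [mul_ite, mul_one, mul_zero, sum_ite_eq', mem_range]
  rw [if_pos (by omega), if_pos (by omega), mul_comm]

/-- the number of the entries with sign zero -/
def cL (L : List ℕ) (φ : ℕ → ZMod 2) : ℕ := (L.map fun c => if φ c = 0 then 1 else 0).sum

theorem cL_split {k e : ℕ} (he : e < 2 ^ k) : ∀ L : List ℕ,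
    cL L (dk (k + 1) e) = cL (L.filter fun c => !c.testBit k) (dk k e) + cL (L.filter fun c => c.testBit k) (dk k e) ∧
    cL L (dk (k + 1) (2 ^ k + e)) + cL (L.filter fun c => c.testBit k) (dk k e) =
      cL (L.filter fun c => !c.testBit k) (dk k e) + (L.filter fun c => c.testBit k).length
  | [] => ⟨rfl, rfl⟩
  | c :: L => by
    obtain ⟨h1, h2⟩ := cL_split he L
    have h3 : dk (k + 1) e c = dk k e c := by
      unfold dk
      rw [sum_range_succ, bit_eq_zero_of_lt he, zero_mul, add_zero]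
    have h4 : dk (k + 1) (2 ^ k + e) c = dk k e c + bit c k := by
      unfold dk
      rw [sum_range_succ, bit_top he, if_pos rfl, one_mul,
        sum_congr rfl fun b hb => by rw [bit_top he, if_neg (by have := mem_range.1 hb; omega)]]
    unfold cL at h1 h2 ⊢
    rw [List.map_cons, List.map_cons, List.sum_cons, List.sum_cons, h3, h4, List.filter_cons, List.filter_cons, bit]
    rcases zmod2_cases (dk k e c) with h5 | h5 <;> cases c.testBit k <;> simp [h5, zmod2_add_self] <;> omega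

/-- the transform of a list -/
noncomputable def whL (W : ℕ) (O : List ℕ) (k : ℕ) : List ℕ → ℕ :=
  Nat.rec List.length (fun k ih L => List.casesOn L 0 fun c L' =>
    mapF (fun x => x) ((c :: L').filter fun c => !c.testBit k) fun L0 =>
    mapF (fun x => x) ((c :: L').filter fun c => c.testBit k) fun L1 => force (ih L0) fun P0 => force (ih L1) fun P1 =>
      Nat.add (Nat.add P0 P1)
        (Nat.shiftLeft (Nat.sub (Nat.add P0 (Nat.mul L1.length (nth O k))) P1) (Nat.mul W (Nat.pow 2 k)))) k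

theorem whL_eq {W : ℕ} {O : List ℕ} : ∀ k, (∀ j < k, O.getD j 0 = ones W j) → ∀ L,
    whL W O k L = pk W k fun e => cL L (dk k e)
  | 0, _, L => by
    rw [pk_zero]
    simp [whL, cL, dk]
  | k + 1, _, [] => by
    unfold pk
    exact (sum_eq_zero fun _ _ => zero_mul _).symm
  | k + 1, hO, c :: L => by
    have ih := whL_eq k fun j hj => hO j (by omega)
    show mapF (fun x => x) ((c :: L).filter fun c => !c.testBit k) (fun L0 =>
      mapF (fun x => x) ((c :: L).filter fun c => c.testBit k) fun L1 => force (whL W O k L0) fun P0 =>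
        force (whL W O k L1) fun P1 => Nat.add (Nat.add P0 P1)
          (Nat.shiftLeft (P0 + L1.length * nth O k - P1) (W * 2 ^ k))) = _
    generalize c :: L = M
    rw [mapF_eq, mapF_eq, force_eq, force_eq, List.map_id', List.map_id', shl_eq, nth_eq, ih, ih, hO k (by omega), ones_eq,
      pk_succ, pk_mul, pk_add]
    refine congrArg₂ (· + ·) ((pk_add _ _ _ _).trans (pk_congr fun e he => (cL_split he M).1.symm))
      (congrArg (HMul.hMul _) (Nat.sub_eq_of_eq_add ?_))
    rw [pk_add]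
    exact pk_congr fun e he => by rw [mul_one, (cL_split he M).2]

/-- the coordinates of the codes of the lanes -/
noncomputable def LC (B : List ℕ) : List ℕ :=
  ((List.range 8192).filter fun i => mL.testBit (12 * i)).map fun i => force (cc i) fun c => colf (fun b => fm b c) B

theorem cL_LC (B : List ℕ) (v : ℕ) :
    tp Cd.isX (Cd.R (P (linL B v))) = 2 * (cL (LC B) (dk B.length v) : ℚ) - 2300 := by
  have h1 : ∀ (n : ℕ) (p : ℕ → Bool) (f : ℕ → ℕ) (φ : ℕ → ZMod 2), cL (((List.range n).filter p).map f) φ =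
      ∑ i ∈ range n, if p i = true ∧ φ (f i) = 0 then 1 else 0 := fun n p f φ => by
    induction n with
    | zero => rfl
    | succ n ih =>
      rw [sum_range_succ, ← ih, List.range_succ, List.filter_append, List.map_append]
      unfold cL
      rw [List.map_append, List.sum_append]
      cases h : p n <;> simp [h]
  rw [tX_R, LC, h1, cn_congr (ψ := fun i => dk B.length v (force (cc i) fun c => colf (fun b => fm b c) B)) fun i _ => ?_]
  · unfold cn
    rfl
  · show fz _ _ = _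
    rw [force_eq, fz_comm, fz_lin, dk]
    exact sum_congr rfl fun k hk => by rw [bit_colf _ _ _ (mem_range.1 hk), bit_fm, fz_comm, fz]

theorem cL_le (L : List ℕ) (φ : ℕ → ZMod 2) : cL L φ ≤ L.length := by
  have h := List.sum_le_card_nsmul (L.map fun c => if φ c = 0 then 1 else 0) 1 fun x hx => by
    obtain ⟨c, -, rfl⟩ := List.mem_map.1 hx
    split_ifs <;> omega
  rwa [List.length_map, smul_eq_mul, mul_one] at h

/-- the check -/
noncomputable def qB (L : List ℕ) (j : ℕ) (l : List (ℕ × ℕ)) : Bool :=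
  mapF (fun x => x) L fun L' => force (Nat.mul 2 j) fun k =>
    mapF (ones 32) (List.range k) fun O => force (ones 32 k) fun o =>
    force (Nat.add (whL 32 O k L') (Nat.mul 4096 (qa 32 j))) fun Z => Nat.blt L'.length 4096 &&
      l.all fun t => Nat.blt t.1 8192 && Nat.beq (Nat.mod (eqq o Z t.1) 4294967295) t.2

/-- the entries of the array -/
noncomputable def zq (L : List ℕ) (j v : ℕ) : ℕ := cL L (dk (2 * j) v) + 4096 * (gq j v).val

theorem qB_spec {L : List ℕ} {j : ℕ} (hj : j ≤ 11) {l : List (ℕ × ℕ)} (h : qB L j l = true) : L.length < 4096 ∧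
    ∀ t ∈ l, t.2 = ∑ v ∈ range (2 ^ (2 * j)), if zq L j v = t.1 then 1 else 0 := by
  unfold qB at h
  have hO : ∀ i < Nat.mul 2 j, ((List.range (Nat.mul 2 j)).map (ones 32)).getD i 0 = ones 32 i := fun i hi => by
    rw [List.getD_eq_getElem _ _ (by simpa using hi), List.getElem_map, List.getElem_range]
  rw [mapF_eq, force_eq, mapF_eq, force_eq, force_eq, List.map_id', whL_eq _ hO, qa_eq, Bool.and_eq_true, Nat.blt_eq,
    List.all_eq_true] at h
  refine ⟨h.1, fun t ht => ?_⟩
  have h1 := h.2 t ht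
  rw [Bool.and_eq_true, Nat.blt_eq, Nat.beq_eq] at h1
  have h2 : Nat.add (pk 32 (Nat.mul 2 j) fun e => cL L (dk (Nat.mul 2 j) e))
      (Nat.mul 4096 (pk 32 (2 * j) fun v => (gq j v).val)) = pk 32 (Nat.mul 2 j) (zq L j) := by
    unfold zq
    rw [← pk_add, ← pk_mul]
    rfl
  rw [h2, eqq_eq (fun p _ => by
    have h3 := cL_le L (dk (2 * j) p)
    have h4 := ZMod.val_lt (gq j p)
    have h5 := h.1
    unfold zq
    omega) (by omega)] at h1
  have h3 : (∑ v ∈ range (2 ^ (2 * j)), if zq L j v = t.1 then 1 else 0) ≤ 2 ^ 22 := by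
    rw [← card_filter]
    exact (card_filter_le _ _).trans ((card_range _).le.trans (Nat.pow_le_pow_right (by norm_num) (by omega)))
  have h4 := pk_sum (2 * j) fun v => if zq L j v = t.1 then 1 else 0
  unfold Nat.ModEq at h4
  rw [Nat.mod_eq_of_lt (lt_of_le_of_lt h3 (by norm_num))] at h4
  exact h1.2.symm.trans h4

theorem qB_ok : qB (LC BQ) 11 [(892, 2300), (5196, 476928), (1148, 2049300), (5260, 1619200), (1276, 46575)] = true := by
  decide +kernel

attribute [local irreducible] LC cL dk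

theorem card_Q {t n : ℕ} {s : ZMod 2} (ht : t < 4096) (h : n = ∑ v ∈ range (2 ^ (2 * 11)), if zq (LC BQ) 11 v = t + 4096 * s.val then 1 else 0) :
    Nat.card {y : Pauli 11 // tp Cd.isX (Cd.R y) = 2 * (t : ℚ) - 2300 ∧ y.b ⬝ᵥ y.a = s} = 2 * n := by
  classical
  rw [card_two (range (2 ^ (2 * 11))) (fun v => P (linL BQ v)) _ (fun x y h1 h2 => ?_) (fun a ha c hc h1 => ?_) fun y _ => ?_, h]
  · refine congrArg (2 * ·) (sum_congr rfl fun v _ => if_congr ?_ rfl rfl)
    rw [cL_LC, q_BQ, zq, show BQ.length = 2 * 11 from rfl]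
    have h3 := lt_of_le_of_lt (cL_le (LC BQ) (dk (2 * 11) v)) (qB_spec le_rfl qB_ok).1
    generalize cL (LC BQ) (dk (2 * 11) v) = x at h3 ⊢
    constructor
    · rintro ⟨h1, rfl⟩
      have h2 : (x : ℚ) = t := by linarith
      rw [Nat.cast_injective h2]
    · intro h1
      have h2 : x = t := by omega
      exact ⟨by rw [h2], ZMod.val_injective 2 (by omega)⟩
  · rw [tX_R] at h2 ⊢
    rw [← show x.a = y.a from congrArg Prod.fst h1, ← show x.b = y.b from congrArg Prod.snd h1,
      ← cn_congr fun i _ => form_ab h1 rfl]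
    exact h2
  · rw [← bs_BQ.dual a (mem_range.1 ha), ← bs_BQ.dual c (mem_range.1 hc)]
    exact linL_congr bs_BQ.lenU.le h1
  · obtain ⟨c, -, hc⟩ := exists_code y
    exact ⟨linL UQ c, mem_range.2 (bs_BQ.ltU c), by rw [bs_BQ.span c rfl, hc]⟩

theorem tr3_rq {y : Pauli 11} {t : ℤ} (h : tp Cd.isX (Cd.R y) = t) (ht : t ≠ 2300) : Tr3 (rq y) (1, 23, t, 0) := by
  unfold Tr3
  rw [pow_one]
  refine ⟨(tU_R _).trans (by norm_num), h, ?_⟩
  rw [tq_eq, sp_rq, H155.TC.Pau.tr_rho fun h1 => ht ?_]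
  · rfl
  · rw [tX_R, cn_congr (fun i _ => form_ab (x' := Pauli.z 11) h1 rfl), ← tX_R, tX_z] at h
    exact_mod_cast h.symm

theorem le_Q {T : Pauli 11 → Prop} {r : Row} (h : ∀ y, T y → Has0 (rq y) r) :
    Nat.card {y // T y} ≤ Nat.card {g : C // pr2 g = 1 ∧ Has0 g r} := by
  have := finite_C
  exact Nat.card_le_card_of_injective (fun y => ⟨rq y, pr2_eq_one.2 ⟨_, rfl⟩, h _ y.2⟩) fun a c e =>
    Subtype.ext (Cd.R_injective (congrArg (fun g : {g : C // pr2 g = 1 ∧ Has0 g r} => g.1.1) e))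

theorem two_Q {t n : ℕ} {a : ℤ} {x : ℕ × ℕ × ℕ × ℕ} (ht : t < 4096) (ha : 2 * (t : ℚ) - 2300 = a) (h1 : a ≠ 2300)
    (h2 : okRow (2, false, [(1, 23, a, 0)], x) = true) (h : n = ∑ v ∈ range (2 ^ (2 * 11)), if zq (LC BQ) 11 v = t then 1 else 0) :
    2 * n ≤ Nat.card {g : C // pr2 g = 1 ∧ Has0 g (2, false, [(1, 23, a, 0)], x)} := by
  rw [← card_Q (s := 0) ht h]
  refine le_Q fun y hy => ?_
  have h3 : ∀ q ∈ [((1 : ℕ), (23 : ℤ), a, (0 : ℤ))], Tr3 (rq y) q := fun q hq =>
    List.mem_singleton.1 hq ▸ tr3_rq (hy.1.trans ha) h1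
  refine ⟨orderOf_row h2 ?_ h3, fun h4 => absurd h4 Bool.false_ne_true, h3⟩
  show rq y ^ 2 = 1
  rw [sq, ← map_mul, Pauli.sq_eq, hy.2]
  exact map_one rq

theorem four_Q {t n : ℕ} {a : ℤ} {x : ℕ × ℕ × ℕ × ℕ} (ht : t < 4096) (ha : 2 * (t : ℚ) - 2300 = a) (h1 : a ≠ 2300)
    (h2 : okRow (4, true, [(2, 23, 2300, -2048), (1, 23, a, 0)], x) = true)
    (h : n = ∑ v ∈ range (2 ^ (2 * 11)), if zq (LC BQ) 11 v = t + 4096 then 1 else 0) :
    2 * n ≤ Nat.card {g : C // pr2 g = 1 ∧ Has0 g (4, true, [(2, 23, 2300, -2048), (1, 23, a, 0)], x)} := by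
  rw [← card_Q (s := 1) ht h]
  refine le_Q fun y hy => ?_
  have h4 : rq y ^ 2 = rq (Pauli.z 11) := by
    rw [sq, ← map_mul, Pauli.sq_eq, hy.2]
    rfl
  have h3 : ∀ q ∈ [((2 : ℕ), (23 : ℤ), (2300 : ℤ), (-2048 : ℤ)), (1, 23, a, 0)], Tr3 (rq y) q := fun q hq => by
    rcases List.mem_cons.1 hq with rfl | hq
    · exact tr3_z h4
    · exact List.mem_singleton.1 hq ▸ tr3_rq (hy.1.trans ha) h1
  refine ⟨orderOf_row h2 ?_ h3, fun _ => by dsimp only; exact h4, h3⟩
  show rq y ^ (2 * 2) = 1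
  rw [pow_mul, h4, sq, ← map_mul, Pauli.z_sq, map_one]

theorem one_le_card {X : Type} [Finite X] {A : X → Prop} {x : X} (h : A x) : 1 ≤ Nat.card {x // A x} :=
  have : Nonempty {x // A x} := ⟨⟨x, h⟩⟩
  Nat.card_pos

/-- **the elements of `Q`** -/
theorem low0 : Low0 1 T0 := by
  have := finite_C
  have h := (qB_spec le_rfl qB_ok).2
  simp only [List.forall_mem_cons] at h
  obtain ⟨h0, h1, h2, h3, h4, -⟩ := h
  refine low0_of (by decide +kernel) fun j hj => ?_
  have hj : j < 7 := hj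
  interval_cases j
  · exact two_Q (by norm_num) (by norm_num) (by norm_num) (by decide +kernel) h0
  · exact four_Q (t := 1100) (by norm_num) (by norm_num) (by norm_num) (by decide +kernel) h1
  · exact two_Q (by norm_num) (by norm_num) (by norm_num) (by decide +kernel) h2
  · exact four_Q (t := 1164) (by norm_num) (by norm_num) (by norm_num) (by decide +kernel) h3
  · exact two_Q (by norm_num) (by norm_num) (by norm_num) (by decide +kernel) h4
  · exact one_le_card (x := 1) ⟨map_one _, orderOf_one, fun h5 => absurd h5 Bool.false_ne_true,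
      fun _ h5 => absurd h5 List.not_mem_nil⟩
  · have h5 : ∀ q ∈ [((1 : ℕ), (23 : ℤ), (2300 : ℤ), (-2048 : ℤ))], Tr3 (rq (Pauli.z 11)) q := fun q hq =>
      List.mem_singleton.1 hq ▸ tr3_z (pow_one _)
    refine one_le_card (x := rq (Pauli.z 11)) ⟨pr2_eq_one.2 ⟨_, rfl⟩, orderOf_row (by decide +kernel) ?_ h5,
      fun _ => pow_one _, h5⟩
    show rq (Pauli.z 11) ^ 2 = 1
    rw [sq, ← map_mul, Pauli.z_sq, map_one]

end Cfsg.Agent.TAB.B.C2
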